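import Mathlib
import Cfsg.Agent.Lib.helper9.Srg77Defs

/-!
S0429 piece H2: every vertex of an SRG(77,16,0,4) lies in exactly 6 cocliques of size 21, and there
are exactly 22 such cocliques (given the earlier pieces as hypotheses).
-/

set_option autoImplicit false
set_option linter.unusedVariables false

namespace Cfsg.Agent.Lib.helper96

open Finset Cfsg.Agent.Lib.helper9

variable {V : Type*} [Fintype V] [DecidableEq V] {G : SimpleGraph V} [DecidableRel G.Adj]

/-- The number of vertices different from and non-adjacent to `x` is 60. -/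
theorem s77_card_nonadj (h : Srg77 G) (x : V) :
    (Finset.univ.filter (fun u => u ≠ x ∧ ¬ G.Adj x u)).card = 60 := by
  have h1 : Finset.univ.filter (fun u => u ≠ x ∧ ¬ G.Adj x u)
      = Finset.univ \ (insert x (nbr G x)) := by
    ext u
    simp only [Finset.mem_filter, Finset.mem_univ, true_and, Finset.mem_sdiff, Finset.mem_insert,
      mem_nbr, not_or]
  rw [h1, Finset.card_sdiff_of_subset (Finset.subset_univ _), Finset.card_univ, h.card,
    Finset.card_insert_of_notMem (nbr_not_mem_self x), h.deg]

theorem card_cocl_of_mem (h : Srg77 G)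
    (hcl : ∀ x y : V, x ≠ y → ¬ G.Adj x y → (line G x y).card = 5)
    (hL : ∀ x y a b : V, x ≠ y → ¬ G.Adj x y → a ∈ line G x y → b ∈ line G x y → a ≠ b →
      ¬ G.Adj a b ∧ line G a b = line G x y)
    (hG2 : ∀ C : Finset V, C ∈ cocl G → ∀ x c : V, x ∈ C → c ∈ C → x ≠ c → line G x c ⊆ C)
    (hH1 : ∀ L : Finset V, IsLine G L → ((cocl G).filter (fun C => L ⊆ C)).card = 2)
    (x : V) :
    ((cocl G).filter (fun C => x ∈ C)).card = 6 := by
  have hUc := s77_card_nonadj h x
  have key := Finset.sum_card_bipartiteAbove_eq_sum_card_bipartiteBelow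
    (s := (cocl G).filter (fun C => x ∈ C))
    (t := Finset.univ.filter (fun u => u ≠ x ∧ ¬ G.Adj x u))
    (fun (C : Finset V) (u : V) => u ∈ C)
  have hleft : ∀ C ∈ (cocl G).filter (fun C => x ∈ C),
      ((Finset.univ.filter (fun u => u ≠ x ∧ ¬ G.Adj x u)).bipartiteAbove
        (fun (C : Finset V) (u : V) => u ∈ C) C).card = 20 := by
    intro C hC
    rw [Finset.mem_filter] at hC
    obtain ⟨hCc, hxC⟩ := hC
    have hCc' := mem_cocl.1 hCc
    have h2 : (Finset.univ.filter (fun u => u ≠ x ∧ ¬ G.Adj x u)).bipartiteAbove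
        (fun (C : Finset V) (u : V) => u ∈ C) C = C.erase x := by
      ext u
      simp only [Finset.bipartiteAbove, Finset.mem_filter, Finset.mem_univ, true_and,
        Finset.mem_erase]
      constructor
      · rintro ⟨⟨hne, _⟩, huC⟩
        exact ⟨hne, huC⟩
      · rintro ⟨hne, huC⟩
        exact ⟨⟨hne, hCc'.1 x hxC u huC⟩, huC⟩
    rw [h2, Finset.card_erase_of_mem hxC, hCc'.2]
  have hright : ∀ u ∈ Finset.univ.filter (fun u => u ≠ x ∧ ¬ G.Adj x u),
      (((cocl G).filter (fun C => x ∈ C)).bipartiteBelow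
        (fun (C : Finset V) (u : V) => u ∈ C) u).card = 2 := by
    intro u hu
    rw [Finset.mem_filter] at hu
    obtain ⟨_, hne, hadj⟩ := hu
    have hline : IsLine G (line G x u) := ⟨x, u, fun e => hne e.symm, hadj, rfl⟩
    rw [← hH1 _ hline]
    congr 1
    ext C
    simp only [Finset.bipartiteBelow, Finset.mem_filter]
    constructor
    · rintro ⟨⟨hC, hxC⟩, huC⟩
      exact ⟨hC, hG2 C hC x u hxC huC (fun e => hne e.symm)⟩
    · rintro ⟨hC, hsub⟩
      exact ⟨⟨hC, hsub (left_mem_line x u)⟩, hsub (right_mem_line x u)⟩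
  rw [Finset.sum_congr rfl hleft, Finset.sum_congr rfl hright, Finset.sum_const, Finset.sum_const,
    hUc] at key
  simp only [smul_eq_mul] at key
  omega

theorem card_cocl (h : Srg77 G)
    (hH2 : ∀ x : V, ((cocl G).filter (fun C => x ∈ C)).card = 6) : (cocl G).card = 22 := by
  have key := Finset.sum_card_bipartiteAbove_eq_sum_card_bipartiteBelow
    (s := cocl G) (t := (Finset.univ : Finset V)) (fun (C : Finset V) (u : V) => u ∈ C)
  have hleft : ∀ C ∈ cocl G, ((Finset.univ : Finset V).bipartiteAbove
      (fun (C : Finset V) (u : V) => u ∈ C) C).card = 21 := by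
    intro C hC
    have h2 : (Finset.univ : Finset V).bipartiteAbove
        (fun (C : Finset V) (u : V) => u ∈ C) C = C := by
      ext u
      simp [Finset.bipartiteAbove]
    rw [h2, (mem_cocl.1 hC).2]
  have hright : ∀ u ∈ (Finset.univ : Finset V), ((cocl G).bipartiteBelow
      (fun (C : Finset V) (u : V) => u ∈ C) u).card = 6 := by
    intro u _
    exact hH2 u
  rw [Finset.sum_congr rfl hleft, Finset.sum_congr rfl hright, Finset.sum_const, Finset.sum_const,
    Finset.card_univ, h.card] at key
  simp only [smul_eq_mul] at key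
  omega

end Cfsg.Agent.Lib.helper96
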