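import Mathlib
import Cfsg.Agent.Lib.helper58.SU3Sylow
import Cfsg.Agent.Lib.helper7.SUCenter

set_option autoImplicit false

/-!
# `|PSU_3(5)| = 126000` (helper96, piece B for S2149)
-/

namespace Cfsg.Agent.Lib.helper96

open Cfsg

theorem card_psu3_five {F : Type*} [Field F] [Fintype F] (hF : Fintype.card F = 25) :
    Nat.card (Cfsg.PSU 3 F 5) = 126000 := by
  have hF' : Fintype.card F = 5 ^ 2 := by rw [hF]; norm_num
  have h1 : Nat.card ↥(SU 3 F 5) = 378000 := by
    rw [Cfsg.Agent.Lib.helper58.card_SU3 hF']; norm_num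
  have h2 : Nat.card (Subgroup.center (SU 3 F 5)) = 3 := by
    rw [Cfsg.Agent.Lib.helper7.card_center_SU hF' 3 (by norm_num)]
    rfl
  have h3 := Subgroup.card_eq_card_quotient_mul_card_subgroup (Subgroup.center (SU 3 F 5))
  rw [h1, h2] at h3
  change Nat.card (SU 3 F 5 ⧸ Subgroup.center (SU 3 F 5)) = 126000
  omega

end Cfsg.Agent.Lib.helper96
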