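import Mathlib
import Cfsg.Prelude.Def_Classical
import Cfsg.Prelude.Def_GeometricClasses
import Cfsg.Agent.S0288
import Cfsg.Agent.Lib.helper85.FeBDIM
import Cfsg.Agent.Lib.helper19.FeBEXT
import Cfsg.Agent.Lib.helper69.FeNDP
import Cfsg.Agent.Lib.helper69.FeNDM

set_option autoImplicit false

namespace Cfsg.Agent.Lib.helper96.FE

open Polynomial

theorem h96_dvd_half {q r : ℕ} [Fact r.Prime] (t : ℕ)
    (ht : orderOf ((q : ℕ) : ZMod r) = 2 * t) (ht0 : 0 < t) : r ∣ q ^ t + 1 := by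
  have h1 : ((q : ZMod r) ^ t) ^ 2 = 1 := by
    rw [← pow_mul, mul_comm, ← ht]; exact pow_orderOf_eq_one _
  have h2 : (q : ZMod r) ^ t ≠ 1 := by
    intro h
    have h3 := orderOf_dvd_of_pow_eq_one h
    rw [ht] at h3
    have := Nat.le_of_dvd ht0 h3
    omega
  have h3 : (q : ZMod r) ^ t = -1 := by
    have h4 : ((q : ZMod r) ^ t - 1) * ((q : ZMod r) ^ t + 1) = 0 := by
      have : ((q : ZMod r) ^ t - 1) * ((q : ZMod r) ^ t + 1) = ((q : ZMod r) ^ t) ^ 2 - 1 := by ring
      rw [this, h1, sub_self]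
    rcases mul_eq_zero.mp h4 with h | h
    · exact absurd (sub_eq_zero.mp h) h2
    · exact eq_neg_of_add_eq_zero_left h
  have h5 : ((q ^ t + 1 : ℕ) : ZMod r) = 0 := by push_cast; rw [h3]; ring
  exact (ZMod.natCast_eq_zero_iff _ _).mp h5

/-- Cauchy + BDIM: an isometry of the minus form of dimension `i = ord_r(q)` with `x^r = 1` and full
`Φ_r`-kernel. -/
theorem h96_minus_elt {F : Type*} [Field F] [Fintype F] (a b : F)
    (hab : ∀ x y : F, x ^ 2 + a * x * y + b * y ^ 2 = 0 → x = 0 ∧ y = 0)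
    (r : ℕ) [Fact r.Prime] (hrF : (r : F) ≠ 0) (j : ℕ)
    (hj : orderOf ((Fintype.card F : ℕ) : ZMod r) = 2 * (j + 1)) :
    ∃ x₀ : GL ((Fin j ⊕ Fin j) ⊕ Fin 2) F, x₀ ∈ Cfsg.isometryGroup F (Cfsg.quadFormMinus j F a b) ∧
      x₀ ^ r = 1 ∧
      Module.finrank F (LinearMap.ker (aeval (Matrix.toLin' (x₀ : Matrix ((Fin j ⊕ Fin j) ⊕ Fin 2) ((Fin j ⊕ Fin j) ⊕ Fin 2) F)) (cyclotomic r F)))
        = orderOf ((Fintype.card F : ℕ) : ZMod r) := by
  classical
  have hdvd : r ∣ Nat.card (Cfsg.isometryGroup F (Cfsg.quadFormMinus j F a b)) := by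
    have hcard : Nat.card (Cfsg.isometryGroup F (Cfsg.quadFormMinus j F a b)) = _ :=
      Cfsg.Agent.S0288.result (F := F) (q := Fintype.card F) rfl (j + 1) (by omega) a b hab
    rw [hcard]
    have h1 := h96_dvd_half (q := Fintype.card F) (r := r) (j + 1) hj (by omega)
    exact Dvd.dvd.mul_right (Dvd.dvd.mul_left h1 _) _
  obtain ⟨x₀', hx₀'⟩ := exists_prime_orderOf_dvd_card' r hdvd
  refine ⟨(x₀' : GL ((Fin j ⊕ Fin j) ⊕ Fin 2) F), x₀'.2, ?_, ?_⟩
  · have : x₀' ^ r = 1 := by rw [← hx₀']; exact pow_orderOf_eq_one _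
    have h2 := congrArg (Subtype.val) this
    simpa using h2
  · have hx1 : (x₀' : GL ((Fin j ⊕ Fin j) ⊕ Fin 2) F) ≠ 1 := by
      intro h
      have : x₀' = 1 := Subtype.ext h
      rw [this, orderOf_one] at hx₀'
      exact (Fact.out : r.Prime).one_lt.ne hx₀'
    have hxr : (x₀' : GL ((Fin j ⊕ Fin j) ⊕ Fin 2) F) ^ r = 1 := by
      have : x₀' ^ r = 1 := by rw [← hx₀']; exact pow_orderOf_eq_one _
      have h2 := congrArg (Subtype.val) this
      simpa using h2
    have hκ : Fintype.card ((Fin j ⊕ Fin j) ⊕ Fin 2) = orderOf ((Fintype.card F : ℕ) : ZMod r) := by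
      rw [hj]; simp; ring
    have h0 := fe_cyc_zero (F := F) r hrF hκ _ hx1 hxr
    rw [h0, LinearMap.ker_zero, finrank_top, Module.finrank_fintype_fun_eq_card, hκ]

theorem h96_two_ne_zero {F : Type*} [Field F] [Fintype F] (hodd : Odd (Fintype.card F)) : (2 : F) ≠ 0 := by
  intro h0
  obtain ⟨p, hp⟩ := CharP.exists F
  have := hp
  have : Fact p.Prime := ⟨CharP.char_is_prime F p⟩
  have h2' : ((2 : ℕ) : F) = 0 := by exact_mod_cast h0
  have hp2 : p ∣ 2 := (CharP.cast_eq_zero_iff F p 2).mp h2'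
  have hpe : p = 2 := (Nat.prime_dvd_prime_iff_eq (Fact.out : p.Prime) Nat.prime_two).mp hp2
  obtain ⟨n, hpr, hcard⟩ := FiniteField.card F p
  rw [hcard, hpe] at hodd
  exact (Nat.not_even_iff_odd.mpr hodd) (Even.pow_of_ne_zero even_two n.ne_zero)

/-- GOODBP: case (b), plus type (helper96). -/
theorem h96_fe_good_b_plus {F : Type*} [Field F] [Fintype F] (hodd : Odd (Fintype.card F)) (d : ℕ)
    (r : ℕ) [Fact r.Prime] (hr2 : r ≠ 2) (hrF : (r : F) ≠ 0)
    (hi : orderOf ((Fintype.card F : ℕ) : ZMod r) % 4 = 2)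
    (hid : orderOf ((Fintype.card F : ℕ) : ZMod r) + 2 ≤ 2 * d) :
    ∃ x : GL (Fin d ⊕ Fin d) F, x ∈ Cfsg.isometryGroup F (Cfsg.quadFormPlus d F) ∧ x ^ r = 1 ∧
      Module.finrank F (LinearMap.ker
        (aeval (Matrix.toLin' (x : Matrix (Fin d ⊕ Fin d) (Fin d ⊕ Fin d) F)) (cyclotomic r F)))
        = orderOf ((Fintype.card F : ℕ) : ZMod r) := by
  classical
  obtain ⟨j, hj⟩ : ∃ j, orderOf ((Fintype.card F : ℕ) : ZMod r) = 2 * (j + 1) :=
    ⟨orderOf ((Fintype.card F : ℕ) : ZMod r) / 2 - 1, by omega⟩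
  have hjd : j + 2 ≤ d := by omega
  have h2 : (2 : F) ≠ 0 := h96_two_ne_zero hodd
  have hchar : ringChar F ≠ 2 := by
    intro h
    have : ((2 : ℕ) : F) = 0 := by rw [← h]; exact ringChar.Nat.cast_ringChar
    exact h2 (by exact_mod_cast this)
  obtain ⟨δ, hδ⟩ := FiniteField.exists_nonsquare (F := F) hchar
  have hab : ∀ x y : F, x ^ 2 + (0 : F) * x * y + (-δ) * y ^ 2 = 0 → x = 0 ∧ y = 0 := by
    intro x y h
    have h' : x ^ 2 = δ * y ^ 2 := by linear_combination h
    by_cases hy : y = 0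
    · subst hy
      simp at h'
      exact ⟨h', rfl⟩
    · exfalso
      apply hδ
      refine ⟨x / y, ?_⟩
      field_simp
      linear_combination -h'
  obtain ⟨x₀, hx₀, hx₀r, hx₀dim⟩ := h96_minus_elt (F := F) 0 (-δ) hab r hrF j hj
  let φ : (((Fin j ⊕ Fin j) ⊕ Fin 2) → F) →ₗ[F] ((Fin d ⊕ Fin d) → F) :=
    { toFun := fun u s => match s with
        | Sum.inl k => if h : (k : ℕ) < j then u (Sum.inl (Sum.inl ⟨k, h⟩))
            else if (k : ℕ) = j then u (Sum.inr 0) else if (k : ℕ) = j + 1 then u (Sum.inr 1) else 0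
        | Sum.inr k => if h : (k : ℕ) < j then u (Sum.inl (Sum.inr ⟨k, h⟩))
            else if (k : ℕ) = j then u (Sum.inr 0) + 0 * u (Sum.inr 1)
            else if (k : ℕ) = j + 1 then (-δ) * u (Sum.inr 1) else 0
      map_add' := by
        intro u v; funext s
        rcases s with k | k
        · by_cases h : (k : ℕ) < j
          · simp [h]
          · by_cases h' : (k : ℕ) = j
            · simp [h']
            · by_cases h'' : (k : ℕ) = j + 1
              · simp [h'']
              · simp [h, h', h'']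
        · by_cases h : (k : ℕ) < j
          · simp [h]
          · by_cases h' : (k : ℕ) = j
            · simp [h']
            · by_cases h'' : (k : ℕ) = j + 1
              · simp [h'']; ring
              · simp [h, h', h'']
      map_smul' := by
        intro c u; funext s
        rcases s with k | k
        · by_cases h : (k : ℕ) < j
          · simp [h]
          · by_cases h' : (k : ℕ) = j
            · simp [h']
            · by_cases h'' : (k : ℕ) = j + 1
              · simp [h'']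
              · simp [h, h', h'']
        · by_cases h : (k : ℕ) < j
          · simp [h]
          · by_cases h' : (k : ℕ) = j
            · simp [h']
            · by_cases h'' : (k : ℕ) = j + 1
              · simp [h'']; ring
              · simp [h, h', h''] }
  have hφ : ∀ u, Cfsg.quadFormPlus d F (φ u) = Cfsg.quadFormMinus j F 0 (-δ) u := by
    intro u
    unfold Cfsg.quadFormPlus Cfsg.quadFormMinus
    let g : ℕ → F := fun k => if h : k < j then
        u (Sum.inl (Sum.inl ⟨k, h⟩)) * u (Sum.inl (Sum.inr ⟨k, h⟩))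
      else if k = j then u (Sum.inr 0) * (u (Sum.inr 0) + 0 * u (Sum.inr 1))
      else if k = j + 1 then u (Sum.inr 1) * ((-δ) * u (Sum.inr 1)) else 0
    have hL : ∑ k : Fin d, (φ u) (Sum.inl k) * (φ u) (Sum.inr k) = ∑ k : Fin d, g k := by
      refine Finset.sum_congr rfl (fun k _ => ?_)
      by_cases h : (k : ℕ) < j
      · simp [φ, g, h]
      · by_cases h' : (k : ℕ) = j
        · simp [φ, g, h']
        · by_cases h'' : (k : ℕ) = j + 1
          · simp [φ, g, h'']
          · simp [φ, g, h, h', h'']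
    have hR : ∑ k : Fin j, u (Sum.inl (Sum.inl k)) * u (Sum.inl (Sum.inr k)) = ∑ k : Fin j, g k := by
      refine Finset.sum_congr rfl (fun k _ => ?_)
      simp [g, k.2]
    have hcut : ∑ k ∈ Finset.range d, g k = ∑ k ∈ Finset.range (j + 2), g k := by
      symm
      refine Finset.sum_subset (Finset.range_mono hjd) (fun k _ hk => ?_)
      have hk' : ¬ k < j + 2 := by simpa using hk
      have h1 : ¬ k < j := by omega
      have h2 : ¬ k = j := by omega
      have h3 : ¬ k = j + 1 := by omega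
      simp [g, h1, h2, h3]
    have hgj : g j = u (Sum.inr 0) * (u (Sum.inr 0) + 0 * u (Sum.inr 1)) := by simp [g]
    have hgj1 : g (j + 1) = u (Sum.inr 1) * ((-δ) * u (Sum.inr 1)) := by simp [g]
    rw [hL, hR, Fin.sum_univ_eq_sum_range g d, Fin.sum_univ_eq_sum_range g j, hcut,
      Finset.sum_range_succ, Finset.sum_range_succ, hgj, hgj1]
    ring
  obtain ⟨x, hx, hxr, hxdim⟩ := fe_extend (F := F) h2 (Cfsg.quadFormPlus d F)
    (fe_nd_plus d) (Cfsg.quadFormMinus j F 0 (-δ)) (fe_nd_minus h2 j 0 (-δ) hab) φ hφ r hrF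
    x₀ hx₀ hx₀r
  exact ⟨x, hx, hxr, hxdim.trans hx₀dim⟩

end Cfsg.Agent.Lib.helper96.FE
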