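import Mathlib
import Cfsg.Prelude.Def_Classical
import Cfsg.Prelude.Def_GeometricClasses
import Cfsg.Agent.Lib.helper30.FeCOMM
import Cfsg.Agent.Lib.helper56.FeCRIT
import Cfsg.Agent.Lib.helper22.FeCYC
import Cfsg.Agent.Lib.helper16.FeFROB
import Cfsg.Agent.Lib.helper16.FeKFROB
import Cfsg.Agent.Lib.helper16.FeNDEG
import Cfsg.Agent.Lib.helper98.FeCRITBcore
import Cfsg.Agent.Lib.helper76.FeEICHP
import Cfsg.Agent.Lib.helper51.FeEICHM
import Cfsg.Agent.Lib.helper61.FeAGL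
import Cfsg.Agent.Lib.helper61.FeAKER
import Cfsg.Agent.Lib.helper9.FeGOODAP
import Cfsg.Agent.Lib.helper13.FeGOODAMcore
import Cfsg.Agent.Lib.helper96.FeGOODBP
import Cfsg.Agent.Lib.helper8.FeGOODBM
import Cfsg.Agent.Lib.helper69.FeNDP
import Cfsg.Agent.Lib.helper69.FeNDM

/-!
# S5977 / S5978, block [B]: derangements of odd prime order (assembly, helper96)
-/

set_option autoImplicit false

namespace Cfsg.Agent.Lib.helper96.FE

open Polynomial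

/-- CRITB from helper98's core and the landed leaves. -/
theorem h96_fe_crit_b {F : Type*} [Field F] [Fintype F] {ι : Type} [Fintype ι] [DecidableEq ι]
    (Q : (ι → F) → F) (hQ : Cfsg.Geo.IsNondegenerateQuadraticForm Q)
    (K : Subalgebra F (Matrix ι ι F)) (hK : Cfsg.Geo.IsFieldSubalgebra 2 K)
    (hKf : Cfsg.Geo.IsSelfAdjointFor (QuadraticMap.polar Q) K)
    (r : ℕ) [Fact r.Prime] (hr2 : r ≠ 2) (hrF : (r : F) ≠ 0)
    (hi : orderOf ((Fintype.card F : ℕ) : ZMod r) % 4 = 2)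
    (x : GL ι F) (hx : x ∈ Cfsg.isometryGroup F Q) (hxr : x ^ r = 1)
    (hdim : Module.finrank F
        (LinearMap.ker (aeval (Matrix.toLin' (x : Matrix ι ι F)) (cyclotomic r F)))
      = orderOf ((Fintype.card F : ℕ) : ZMod r))
    (g : GL ι F) (hg : g ∈ Cfsg.isometryGroup F Q) :
    g⁻¹ * x * g ∉ Cfsg.Geo.subalgebraNormalizer K :=
  h98_fe_crit_b_core Q hQ K hKf r hr2 hrF hi x hx hxr hdim g hg
    (fun y hy s hs hys => fe_comm K hK y hy s hs hys)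
    (fun y hyr W hWy hW1 hdimW w hw hw0 w' hw' => fe_cyclic r y hyr W hWy hW1 hdimW w hw hw0 w' hw')
    (fun y g j => fe_frob y g j)
    (fun j hj => fe_Kfrob K hK j hj)
    (fun y hy hyr w hw hperp => fe_nondeg Q hQ r hrF y hy hyr w hw hperp)

/-- GOODAM from helper13's core and AGL, AKER. -/
theorem h96_fe_good_a_minus {F : Type*} [Field F] [Fintype F] (m : ℕ) (a b : F) (r : ℕ) [Fact r.Prime]
    (hr2 : r ≠ 2) (hrF : (r : F) ≠ 0)
    (hi : Odd (orderOf ((Fintype.card F : ℕ) : ZMod r)))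
    (hid : orderOf ((Fintype.card F : ℕ) : ZMod r) ≤ m) :
    ∃ x : GL ((Fin m ⊕ Fin m) ⊕ Fin 2) F,
      x ∈ Cfsg.isometryGroup F (Cfsg.quadFormMinus m F a b) ∧ x ^ r = 1 ∧
      ∃ f : F[X], Odd (Module.finrank F (LinearMap.ker
        (aeval (Matrix.toLin' (x : Matrix ((Fin m ⊕ Fin m) ⊕ Fin 2) ((Fin m ⊕ Fin m) ⊕ Fin 2) F)) f))) := by
  obtain ⟨A, hA⟩ := fe_gl_elt (F := F) r hrF
  obtain ⟨f, hf0, hf1, hfu⟩ := fe_gl_poly (F := F) r hr2 hrF hi A hA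
  exact h13_good_a_minus_core m a b r _ (Fact.out : r.Prime).ne_zero hi hid A
    (by have h := pow_orderOf_eq_one A; rwa [hA] at h) f hf0 hf1 hfu

/-! ### what MAIN uses from block [B] -/

theorem fe_main_plus {F : Type*} [Field F] [Fintype F] {p : ℕ} [Fact p.Prime] [CharP F p]
    (hodd : Odd (Fintype.card F)) (d : ℕ) (hd : 4 ≤ d)
    (K : Subalgebra F (Matrix (Fin d ⊕ Fin d) (Fin d ⊕ Fin d) F)) (hK : Cfsg.Geo.IsFieldSubalgebra 2 K)
    (hKf : Cfsg.Geo.IsSelfAdjointFor (QuadraticMap.polar (Cfsg.quadFormPlus d F)) K)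
    (r : ℕ) [Fact r.Prime] (hr2 : r ≠ 2)
    (hcase : r = p ∨ (r ≠ p ∧ ((Odd (orderOf ((Fintype.card F : ℕ) : ZMod r)) ∧
        orderOf ((Fintype.card F : ℕ) : ZMod r) ≤ d) ∨
      (orderOf ((Fintype.card F : ℕ) : ZMod r) % 4 = 2 ∧
        orderOf ((Fintype.card F : ℕ) : ZMod r) + 2 ≤ 2 * d)))) :
    ∃ x : GL (Fin d ⊕ Fin d) F, x ∈ Cfsg.isometryGroup F (Cfsg.quadFormPlus d F) ∧ x ^ r = 1 ∧
      ∀ g ∈ Cfsg.isometryGroup F (Cfsg.quadFormPlus d F),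
        g⁻¹ * x * g ∉ Cfsg.Geo.subalgebraNormalizer K := by
  have hrodd : Odd r := (Fact.out : r.Prime).odd_of_ne_two hr2
  rcases hcase with h | ⟨hrp, h | h⟩
  · subst h
    obtain ⟨x, hx, hxr, f, hf⟩ := fe_eichler_plus (F := F) r hr2 d (by omega)
    exact ⟨x, hx, hxr, fun g _ => fe_crit K hK x r hrodd ⟨1, by simp [hxr]⟩ f hf g⟩
  · have hrF : (r : F) ≠ 0 := by
      intro h0
      have := (CharP.cast_eq_zero_iff F p r).mp h0
      exact hrp ((Nat.prime_dvd_prime_iff_eq (Fact.out : p.Prime) (Fact.out : r.Prime)).mp this).symm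
    obtain ⟨x, hx, hxr, f, hf⟩ := fe_good_a_plus (F := F) d r hr2 hrF h.1 h.2
    exact ⟨x, hx, hxr, fun g _ => fe_crit K hK x r hrodd ⟨1, by simp [hxr]⟩ f hf g⟩
  · have hrF : (r : F) ≠ 0 := by
      intro h0
      have := (CharP.cast_eq_zero_iff F p r).mp h0
      exact hrp ((Nat.prime_dvd_prime_iff_eq (Fact.out : p.Prime) (Fact.out : r.Prime)).mp this).symm
    obtain ⟨x, hx, hxr, hdim⟩ := h96_fe_good_b_plus (F := F) hodd d r hr2 hrF h.1 h.2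
    exact ⟨x, hx, hxr, fun g hg => h96_fe_crit_b _ (fe_nd_plus d) K hK hKf r hr2 hrF h.1 x hx hxr hdim g hg⟩

theorem fe_main_minus {F : Type*} [Field F] [Fintype F] {p : ℕ} [Fact p.Prime] [CharP F p]
    (hodd : Odd (Fintype.card F)) (m : ℕ) (hm : 3 ≤ m) (a b : F)
    (hab : ∀ x y : F, x ^ 2 + a * x * y + b * y ^ 2 = 0 → x = 0 ∧ y = 0)
    (K : Subalgebra F (Matrix ((Fin m ⊕ Fin m) ⊕ Fin 2) ((Fin m ⊕ Fin m) ⊕ Fin 2) F))
    (hK : Cfsg.Geo.IsFieldSubalgebra 2 K)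
    (hKf : Cfsg.Geo.IsSelfAdjointFor (QuadraticMap.polar (Cfsg.quadFormMinus m F a b)) K)
    (r : ℕ) [Fact r.Prime] (hr2 : r ≠ 2)
    (hcase : r = p ∨ (r ≠ p ∧ ((Odd (orderOf ((Fintype.card F : ℕ) : ZMod r)) ∧
        orderOf ((Fintype.card F : ℕ) : ZMod r) ≤ m) ∨
      (orderOf ((Fintype.card F : ℕ) : ZMod r) % 4 = 2 ∧
        orderOf ((Fintype.card F : ℕ) : ZMod r) ≤ 2 * m + 2)))) :
    ∃ x : GL ((Fin m ⊕ Fin m) ⊕ Fin 2) F,
      x ∈ Cfsg.isometryGroup F (Cfsg.quadFormMinus m F a b) ∧ x ^ r = 1 ∧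
      ∀ g ∈ Cfsg.isometryGroup F (Cfsg.quadFormMinus m F a b),
        g⁻¹ * x * g ∉ Cfsg.Geo.subalgebraNormalizer K := by
  have hrodd : Odd r := (Fact.out : r.Prime).odd_of_ne_two hr2
  have h2 : (2 : F) ≠ 0 := by
    intro h0
    have h2' : ((2 : ℕ) : F) = 0 := by exact_mod_cast h0
    have hp2 : p ∣ 2 := (CharP.cast_eq_zero_iff F p 2).mp h2'
    have hpe : p = 2 := (Nat.prime_dvd_prime_iff_eq (Fact.out : p.Prime) Nat.prime_two).mp hp2
    obtain ⟨n, hn⟩ := FiniteField.card F p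
    rcases hn with ⟨hpr, hcard⟩
    rw [hcard, hpe] at hodd
    exact (Nat.not_even_iff_odd.mpr hodd) (Even.pow_of_ne_zero even_two n.ne_zero)
  rcases hcase with h | ⟨hrp, h | h⟩
  · subst h
    obtain ⟨x, hx, hxr, f, hf⟩ := fe_eichler_minus (F := F) r hr2 m (by omega) a b
    exact ⟨x, hx, hxr, fun g _ => fe_crit K hK x r hrodd ⟨1, by simp [hxr]⟩ f hf g⟩
  · have hrF : (r : F) ≠ 0 := by
      intro h0
      have := (CharP.cast_eq_zero_iff F p r).mp h0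
      exact hrp ((Nat.prime_dvd_prime_iff_eq (Fact.out : p.Prime) (Fact.out : r.Prime)).mp this).symm
    obtain ⟨x, hx, hxr, f, hf⟩ := h96_fe_good_a_minus (F := F) m a b r hr2 hrF h.1 h.2
    exact ⟨x, hx, hxr, fun g _ => fe_crit K hK x r hrodd ⟨1, by simp [hxr]⟩ f hf g⟩
  · have hrF : (r : F) ≠ 0 := by
      intro h0
      have := (CharP.cast_eq_zero_iff F p r).mp h0
      exact hrp ((Nat.prime_dvd_prime_iff_eq (Fact.out : p.Prime) (Fact.out : r.Prime)).mp this).symm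
    obtain ⟨x, hx, hxr, hdim⟩ := fe_good_b_minus (F := F) hodd m a b hab r hr2 hrF h.1 h.2
    exact ⟨x, hx, hxr, fun g hg =>
      h96_fe_crit_b _ (fe_nd_minus h2 m a b hab) K hK hKf r hr2 hrF h.1 x hx hxr hdim g hg⟩

end Cfsg.Agent.Lib.helper96.FE
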