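import Mathlib
import Cfsg.Agent.S0713
import Cfsg.Agent.S0415

set_option autoImplicit false
set_option linter.unnecessarySimpa false

namespace Cfsg.Agent.Lib.helper96.Miller

open MulAction Subgroup

/-- A `p`-group acting with an orbit of size exactly `p`: the action on that orbit is cyclic. -/
lemma orbit_prime_facts {Pg X : Type*} [Group Pg] [Finite Pg] [MulAction Pg X] {p : ℕ}
    [hp : Fact p.Prime] (hP : IsPGroup p Pg) (a : X) (hcard : (orbit Pg a).ncard = p) :
    (∀ x g : Pg, x • a = a → x • g • a = g • a) ∧ (∀ x : Pg, x ^ p • a = a) ∧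
    (∀ h : Pg, h • a ≠ a → ∀ x : Pg, ∃ i : ℕ, ∀ g : Pg, x • g • a = h ^ i • g • a) := by
  have hidx : (stabilizer Pg a).index = p := by rw [index_stabilizer, hcard]
  obtain ⟨n, hn⟩ := IsPGroup.iff_card.mp hP
  have hn0 : n ≠ 0 := by
    rintro rfl
    have h1 := (stabilizer Pg a).index_dvd_card
    rw [hidx, hn, pow_zero] at h1
    exact hp.out.one_lt.ne' (Nat.dvd_one.mp h1)
  have hnorm : (stabilizer Pg a).Normal := by
    apply Subgroup.normal_of_index_eq_minFac_card
    rw [hidx, hn, Nat.Prime.pow_minFac hp.out hn0]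
  have F1 : ∀ x g : Pg, x • a = a → x • g • a = g • a := by
    intro x g hx
    have h1 : g⁻¹ * x * g⁻¹⁻¹ ∈ stabilizer Pg a := hnorm.conj_mem x hx g⁻¹
    rw [mem_stabilizer_iff] at h1
    have h2 : x • g • a = g • (g⁻¹ * x * g⁻¹⁻¹) • a := by
      simp only [inv_inv, ← mul_smul]
      congr 1
      group
    rw [h2, h1]
  refine ⟨F1, ?_, ?_⟩
  · intro x
    have h1 := (stabilizer Pg a).pow_index_mem x
    rwa [hidx] at h1
  · intro h hh x
    have hcardQ : Nat.card (Pg ⧸ stabilizer Pg a) = p := by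
      rw [← Subgroup.index_eq_card, hidx]
    have hne : (QuotientGroup.mk h : Pg ⧸ stabilizer Pg a) ≠ 1 := by
      intro h1
      rw [QuotientGroup.eq_one_iff] at h1
      exact hh h1
    obtain ⟨i, hi⟩ := mem_powers_of_prime_card (g' := (QuotientGroup.mk x : Pg ⧸ stabilizer Pg a))
      hcardQ hne
    refine ⟨i, fun g => ?_⟩
    have h2 : ((h ^ i : Pg) : Pg ⧸ stabilizer Pg a) = (x : Pg ⧸ stabilizer Pg a) := by
      rw [QuotientGroup.mk_pow]; exact hi
    rw [QuotientGroup.eq] at h2
    have h3 := F1 _ g h2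
    rw [mul_smul, inv_smul_eq_iff] at h3
    exact h3

/-- Frattini argument in elementwise form. -/
lemma frattini_elt {Γ : Type*} [Group Γ] [Finite Γ] {p : ℕ} [Fact p.Prime] (H T : Subgroup Γ)
    (hnorm : ∀ t ∈ T, ∀ h, h ∈ H ↔ t * h * t⁻¹ ∈ H) (Q : Sylow p H) :
    ∀ t ∈ T, ∃ h ∈ H, ∀ x, x ∈ (Q : Subgroup H).map H.subtype ↔
      (h * t) * x * (h * t)⁻¹ ∈ (Q : Subgroup H).map H.subtype := by
  intro t ht
  let φ : MulAut H :=
    { toFun := fun h => ⟨t * h * t⁻¹, (hnorm t ht h).mp h.2⟩
      invFun := fun h => ⟨t⁻¹ * h * t, by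
        have := (hnorm t ht (t⁻¹ * h * t)).mpr (by simpa [mul_assoc] using h.2)
        exact this⟩
      left_inv := fun h => by ext; simp [mul_assoc]
      right_inv := fun h => by ext; simp [mul_assoc]
      map_mul' := fun a b => by ext; simp [mul_assoc] }
  obtain ⟨f, hf⟩ := MulAction.exists_smul_eq H (φ • Q) Q
  refine ⟨f, f.2, fun x => ?_⟩
  have key : ∀ q : H, q ∈ (Q : Subgroup H) ↔
      (⟨f * (t * q * t⁻¹) * f⁻¹, H.mul_mem (H.mul_mem f.2 ((hnorm t ht q).mp q.2))
        (H.inv_mem f.2)⟩ : H) ∈ (Q : Subgroup H) := by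
    intro q
    have h1 : (⟨f * (t * q * t⁻¹) * f⁻¹, H.mul_mem (H.mul_mem f.2 ((hnorm t ht q).mp q.2))
        (H.inv_mem f.2)⟩ : H) = MulAut.conj f • φ • q := by
      ext; simp [φ, MulAut.smul_def]
    rw [h1]
    conv_rhs => rw [← hf]
    rw [Sylow.coe_subgroup_smul, Sylow.pointwise_smul_def]
    rw [Subgroup.smul_mem_pointwise_smul_iff, Subgroup.smul_mem_pointwise_smul_iff]
  constructor
  · rintro ⟨q, hq, rfl⟩
    refine ⟨_, (key q).mp hq, ?_⟩
    simp [mul_assoc]
  · rintro ⟨q', hq', hx⟩
    have hxH : x ∈ H := by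
      have h1 : (f : Γ) * t * x * ((f : Γ) * t)⁻¹ ∈ H := by rw [← hx]; exact q'.2
      have h2 : t * x * t⁻¹ ∈ H := by
        have := H.mul_mem (H.mul_mem (H.inv_mem f.2) h1) f.2
        simpa [mul_assoc] using this
      exact (hnorm t ht x).mpr h2
    refine ⟨⟨x, hxH⟩, ?_, rfl⟩
    have : (⟨f * (t * x * t⁻¹) * f⁻¹, H.mul_mem (H.mul_mem f.2 ((hnorm t ht x).mp hxH))
        (H.inv_mem f.2)⟩ : H) = q' := by
      ext
      simp only [Subgroup.subtype_apply] at hx
      rw [hx]; simp [mul_assoc]
    refine (key ⟨x, hxH⟩).mpr ?_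
    rw [this]; exact hq'

lemma pow_agree {α : Type*} {u v : Equiv.Perm α} {S : Set α} (h : ∀ b ∈ S, u b = v b)
    (hv : ∀ b ∈ S, v b ∈ S) (i : ℕ) : ∀ b ∈ S, (u ^ i) b = (v ^ i) b := by
  induction i with
  | zero => intro b _; simp
  | succ i ih =>
    intro b hb
    rw [pow_succ, pow_succ, Equiv.Perm.mul_apply, Equiv.Perm.mul_apply, h b hb, ih _ (hv b hb)]

/-- A nontrivial element of small support in a highly transitive group yields a 3-cycle. -/
lemma small_support {α : Type*} [Fintype α] [DecidableEq α] (G : Subgroup (Equiv.Perm α))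
    (hprim : IsPreprimitive G α) {m : ℕ} (hm : IsMultiplyPretransitive G α m)
    (hmn : m ≤ Fintype.card α)
    {g : Equiv.Perm α} (hg : g ∈ G) (hg1 : g ≠ 1) (hs : g.support.card ≤ m)
    (hlt : g.support.card < Fintype.card α) : alternatingGroup α ≤ G := by
  classical
  obtain ⟨a, ha⟩ : ∃ a, a ∈ g.support := by
    by_contra h
    push Not at h
    exact hg1 (Equiv.Perm.support_eq_empty_iff.mp (Finset.eq_empty_of_forall_notMem h))
  set b := g a with hb
  have hbs : b ∈ g.support := Equiv.Perm.apply_mem_support.mpr ha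
  obtain ⟨c, hc⟩ : ∃ c, c ∉ g.support := by
    by_contra h
    push Not at h
    have : g.support = Finset.univ := Finset.eq_univ_iff_forall.mpr h
    rw [this, Finset.card_univ] at hlt
    exact lt_irrefl _ hlt
  have hm' : IsMultiplyPretransitive G α g.support.card := by
    have := hm
    exact isMultiplyPretransitive_of_le (n := m) hs (by rw [Nat.card_eq_fintype_card]; exact hmn)
  obtain ⟨x, hxG, hx⟩ := Cfsg.Agent.S0713.ext_perm G hm' g.support rfl (Equiv.swap b c)
  have hbc : b ≠ c := fun h => hc (h ▸ hbs)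
  have hgb : g b ≠ b := Equiv.Perm.mem_support.mp hbs
  have hgbs : g b ∈ g.support := Equiv.Perm.apply_mem_support.mpr hbs
  have hgc : g c = c := Equiv.Perm.notMem_support.mp hc
  have hconj : x * g * x⁻¹ = Equiv.swap b c * g * Equiv.swap b c := by
    rw [mul_inv_eq_iff_eq_mul]
    ext z
    simp only [Equiv.Perm.mul_apply]
    by_cases hz : z ∈ g.support
    · rw [hx z hz, Equiv.swap_apply_self, hx (g z) (Equiv.Perm.apply_mem_support.mpr hz)]
    · rw [Equiv.Perm.notMem_support.mp hz]
      have h1 : Equiv.swap b c (x z) ∉ g.support := by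
        intro h
        have h2 := hx _ h
        rw [Equiv.swap_apply_self] at h2
        have h3 := x.injective h2
        rw [h3] at h
        exact hz h
      rw [Equiv.Perm.notMem_support.mp h1, Equiv.swap_apply_self]
  have h3 : x * g * x⁻¹ * g⁻¹ = Equiv.swap c b * Equiv.swap c (g b) := by
    have h4 : Equiv.swap b c * g * Equiv.swap b c * g⁻¹
        = Equiv.swap b c * (g * Equiv.swap b c * g⁻¹) := by group
    rw [hconj, h4, ← Equiv.swap_apply_apply, hgc, Equiv.swap_comm b c, Equiv.swap_comm (g b) c]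
  have h3c : (x * g * x⁻¹ * g⁻¹).IsThreeCycle := by
    rw [h3]
    exact Equiv.Perm.isThreeCycle_swap_mul_swap_same (Ne.symm hbc) (fun h => hc (h ▸ hgbs))
      (Ne.symm hgb)
  exact Equiv.Perm.alternatingGroup_le_of_isPreprimitive_of_isThreeCycle_mem hprim h3c
    (G.mul_mem (G.mul_mem (G.mul_mem hxG hg) (G.inv_mem hxG)) (G.inv_mem hg))

/-- A 4-transitive group of degree 9 contains the alternating group. -/
lemma degree_nine {α : Type*} [Fintype α] [DecidableEq α] (G : Subgroup (Equiv.Perm α))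
    (h9 : Fintype.card α = 9) (h4 : IsMultiplyPretransitive G α 4) : alternatingGroup α ≤ G := by
  classical
  have hprim : IsPreprimitive G α := by
    have := h4
    have : IsMultiplyPretransitive G α 2 :=
      isMultiplyPretransitive_of_le (n := 4) (by norm_num)
        (by rw [Nat.card_eq_fintype_card, h9]; norm_num)
    exact isPreprimitive_of_is_two_pretransitive inferInstance
  by_cases hex : ∃ g ∈ G, g ≠ 1 ∧ g.support.card ≤ 5
  · obtain ⟨g, hgG, hg1, hgs⟩ := hex
    obtain ⟨q, hq, hqd⟩ := Nat.exists_prime_and_dvd (n := orderOf g)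
      (by rw [Ne, orderOf_eq_one_iff]; exact hg1)
    set σ := g ^ (orderOf g / q) with hσ
    have hσo : orderOf σ = q := orderOf_pow_orderOf_div (orderOf_pos g).ne' hqd
    have hσG : σ ∈ G := G.pow_mem hgG _
    have hσ1 : σ ≠ 1 := by
      intro h; rw [h, orderOf_one] at hσo; exact hq.ne_one hσo.symm
    have hσs : σ.support.card ≤ 5 :=
      (Finset.card_le_card (Equiv.Perm.support_pow_le g _)).trans hgs
    by_cases h4' : σ.support.card ≤ 4
    · exact small_support G hprim h4 (by omega) hσG hσ1 h4' (by omega)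
    · have h5 : σ.support.card = 5 := by omega
      have hdvd : q ∣ σ.support.card := by
        obtain ⟨n, hn⟩ := Equiv.Perm.cycleType_prime_order (σ := σ) (by rw [hσo]; exact hq)
        rw [← Equiv.Perm.sum_cycleType, hn, hσo]; simp
      rw [h5] at hdvd
      have hq5 : q = 5 := (Nat.prime_dvd_prime_iff_eq hq (by norm_num)).mp hdvd
      have hcyc : σ.IsCycle := Equiv.Perm.isCycle_of_prime_order (by rw [hσo]; exact hq)
        (by rw [hσo, h5, hq5]; norm_num)
      exact Cfsg.Agent.S0713.result G hprim (p := 5) (by norm_num) (by omega) (by omega) hcyc h5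
        hσG
  · push Not at hex
    have := h4
    have hsharp : ∀ x : Fin 4 ↪ α, MulAction.stabilizer G x = ⊥ := by
      intro x
      rw [eq_bot_iff]
      intro g hg
      rw [Subgroup.mem_bot]
      by_contra hg1
      have hgs := hex g.1 g.2 (fun h => hg1 (Subtype.ext h))
      have hfix : ∀ i, (g : Equiv.Perm α) (x i) = x i := by
        intro i
        have := congrArg (fun e : Fin 4 ↪ α => e i) (MulAction.mem_stabilizer_iff.mp hg)
        exact this
      have hsub : (g : Equiv.Perm α).support ⊆ (Finset.univ.map x)ᶜ := by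
        intro z hz
        rw [Finset.mem_compl, Finset.mem_map]
        rintro ⟨i, -, rfl⟩
        exact (Equiv.Perm.mem_support.mp hz) (hfix i)
      have := Finset.card_le_card hsub
      rw [Finset.card_compl, Finset.card_map, Finset.card_univ, h9, Fintype.card_fin] at this
      omega
    have := Cfsg.Agent.S0415.result G (by omega) hsharp
    omega

end Cfsg.Agent.Lib.helper96.Miller
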