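import Mathlib
import Cfsg.Agent.Lib.helper96.MillerA

set_option autoImplicit false
set_option linter.unnecessarySimpa false

namespace Cfsg.Agent.Lib.helper96.Miller

open MulAction Subgroup

universe u

/-- The orbit relation of `P` on the complement of `Δ`. -/
def orbSetoid {α : Type u} (P : Subgroup (Equiv.Perm α)) (Δ : Finset α) :
    Setoid {a : α // a ∉ Δ} where
  r a b := ∃ x ∈ P, x a.1 = b.1
  iseqv := ⟨fun a => ⟨1, P.one_mem, rfl⟩,
    fun {a b} ⟨x, hx, h⟩ => ⟨x⁻¹, P.inv_mem hx, by rw [← h]; simp⟩,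
    fun {a b c} ⟨x, hx, h⟩ ⟨y, hy, h'⟩ =>
      ⟨y * x, P.mul_mem hy hx, by rw [Equiv.Perm.mul_apply, h, h']⟩⟩

/-- The kernel of the action of `N` on the set of `P`-orbits outside `Δ`. -/
lemma orb_kernel {α : Type u} [Fintype α] [DecidableEq α] (P N : Subgroup (Equiv.Perm α))
    (Δ : Finset α) {p k : ℕ}
    (hNset : ∀ y ∈ N, ∀ z, y z ∈ Δ ↔ z ∈ Δ) (hNnorm : ∀ y ∈ N, ∀ x ∈ P, y * x * y⁻¹ ∈ P)
    (hPfix : ∀ x ∈ P, ∀ z ∈ Δ, x z = z)
    (hcard : (Δᶜ).card = k * p) (hp0 : 0 < p) (horb : ∀ a ∉ Δ, p ≤ (orbit P a).ncard) :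
    ∃ N₀ : Subgroup (Equiv.Perm α), N₀ ≤ N ∧ (∀ w ∈ N₀, ∀ a ∉ Δ, ∃ x ∈ P, x a = w a) ∧
      (∀ y ∈ N, ∀ w ∈ N₀, y * w * y⁻¹ ∈ N₀) ∧ (∀ y ∈ N, y ^ k.factorial ∈ N₀) ∧
      (∀ (ι : Type u) [Fintype ι] (f : ι → Equiv.Perm α), (∀ i, f i ∈ N) →
        k.factorial < Fintype.card ι → ∃ i j, i ≠ j ∧ (f i)⁻¹ * f j ∈ N₀) := by
  classical
  let s := orbSetoid P Δ
  let 𝒬 := Quotient s
  let act : MulAction N 𝒬 :=
    { smul := fun y => Quotient.map (fun a => ⟨y.1 a.1, fun h => a.2 ((hNset y.1 y.2 _).mp h)⟩)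
        (by
          rintro a b ⟨x, hx, h⟩
          exact ⟨y.1 * x * y.1⁻¹, hNnorm y.1 y.2 x hx, by simp [h]⟩)
      one_smul := by
        rintro ⟨a⟩
        rfl
      mul_smul := by
        rintro y y' ⟨a⟩
        rfl }
  let ψ : N →* Equiv.Perm 𝒬 := MulAction.toPermHom N 𝒬
  have : Fintype 𝒬 := Fintype.ofFinite _
  have hQ : Fintype.card 𝒬 ≤ k := by
    have h1 : Fintype.card {a : α // a ∉ Δ} = k * p := by
      rw [← hcard]
      exact Fintype.card_of_subtype _ (fun x => by simp)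
    have h2 : Fintype.card 𝒬 * p ≤ Fintype.card {a : α // a ∉ Δ} := by
      have e1 := Finset.card_eq_sum_card_fiberwise (f := (Quotient.mk s))
        (s := (Finset.univ : Finset {a : α // a ∉ Δ})) (t := (Finset.univ : Finset 𝒬))
        (fun _ _ => Finset.mem_univ _)
      have e2 := Finset.card_nsmul_le_sum (Finset.univ : Finset 𝒬)
        (fun q => (Finset.univ.filter (fun a : {a : α // a ∉ Δ} => Quotient.mk s a = q)).card) p
        (by
          intro q _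
          induction q using Quotient.inductionOn with
          | _ a =>
            refine (horb a.1 a.2).trans ?_
            have hsub : orbit P a.1 ⊆ ↑((Finset.univ.filter
                (fun b : {a : α // a ∉ Δ} => Quotient.mk s b = Quotient.mk s a)).image
                Subtype.val) := by
              rintro b ⟨x, rfl⟩
              have hb : x.1 a.1 ∉ Δ := by
                intro h
                have h3 := hPfix x.1 x.2 _ h
                exact a.2 (x.1.injective h3 ▸ h)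
              rw [Finset.mem_coe, Finset.mem_image]
              refine ⟨⟨x.1 a.1, hb⟩, ?_, rfl⟩
              rw [Finset.mem_filter]
              refine ⟨Finset.mem_univ _, Quotient.sound ?_⟩
              exact ⟨x.1⁻¹, P.inv_mem x.2, by simp⟩
            have h4 := Set.ncard_le_ncard hsub (Finset.finite_toSet _)
            rw [Set.ncard_coe_finset] at h4
            exact h4.trans Finset.card_image_le)
      rw [Finset.card_univ] at e1 e2
      rw [e1]
      simpa using e2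
    rw [h1] at h2
    exact Nat.le_of_mul_le_mul_right h2 hp0
  have hker : ∀ w : N, ψ w = 1 → ∀ a ∉ Δ, ∃ x ∈ P, x a = w.1 a := by
    intro w hw a ha
    have h1 : ψ w (Quotient.mk s ⟨a, ha⟩) = Quotient.mk s ⟨a, ha⟩ := by rw [hw]; rfl
    have h2 : (Quotient.mk s ⟨w.1 a, fun h => ha ((hNset w.1 w.2 _).mp h)⟩ : 𝒬)
        = Quotient.mk s ⟨a, ha⟩ := h1
    obtain ⟨x, hx, h3⟩ := Quotient.exact h2
    exact ⟨x⁻¹, P.inv_mem hx, by rw [Equiv.Perm.inv_eq_iff_eq]; exact h3.symm⟩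
  refine ⟨ψ.ker.map N.subtype, Subgroup.map_subtype_le _, ?_, ?_, ?_, ?_⟩
  · rintro w ⟨w', hw', rfl⟩ a ha
    exact hker w' (MonoidHom.mem_ker.mp hw') a ha
  · rintro y hy w ⟨w', hw', rfl⟩
    refine ⟨⟨y, hy⟩ * w' * ⟨y, hy⟩⁻¹, ?_, rfl⟩
    exact (MonoidHom.normal_ker ψ).conj_mem w' hw' ⟨y, hy⟩
  · intro y hy
    refine ⟨⟨y, hy⟩ ^ k.factorial, ?_, rfl⟩
    have h1 : Fintype.card (Equiv.Perm 𝒬) ∣ k.factorial := by
      rw [Fintype.card_perm]; exact Nat.factorial_dvd_factorial hQ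
    obtain ⟨c, hc⟩ := h1
    show ψ (⟨y, hy⟩ ^ k.factorial) = 1
    rw [map_pow, hc, pow_mul, pow_card_eq_one, one_pow]
  · intro ι _ f hf hlt
    have h1 : Fintype.card (Equiv.Perm 𝒬) < Fintype.card ι := by
      rw [Fintype.card_perm]; exact lt_of_le_of_lt (Nat.factorial_le hQ) hlt
    obtain ⟨i, j, hij, h⟩ := Fintype.exists_ne_map_eq_of_card_lt (fun i => ψ ⟨f i, hf i⟩) h1
    refine ⟨i, j, hij, ⟨⟨f i, hf i⟩⁻¹ * ⟨f j, hf j⟩, ?_, rfl⟩⟩
    show ψ (⟨f i, hf i⟩⁻¹ * ⟨f j, hf j⟩) = 1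
    rw [map_mul, map_inv, h, inv_mul_cancel]

end Cfsg.Agent.Lib.helper96.Miller
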