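import Mathlib
import Cfsg.Agent.Lib.helper96.MillerB

set_option autoImplicit false
set_option linter.unnecessarySimpa false

namespace Cfsg.Agent.Lib.helper96.Miller

open MulAction Subgroup

universe u

/-- The working context: `P` a `p`-group fixing `Δ` pointwise with all orbits outside `Δ` of
size `p`, `N` normalising `P` and stabilising `Δ`, `N₀ ≤ N` fixing every `P`-orbit. -/
structure Ctx {α : Type u} (Δ : Finset α) (P N N₀ : Subgroup (Equiv.Perm α)) (p : ℕ) : Prop where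
  P_fix : ∀ x ∈ P, ∀ z ∈ Δ, x z = z
  P_move : ∀ a ∉ Δ, ∃ x ∈ P, x a ≠ a
  F1 : ∀ a ∉ Δ, ∀ x ∈ P, ∀ g ∈ P, x a = a → x (g a) = g a
  F2 : ∀ a ∉ Δ, ∀ x ∈ P, (x ^ p) a = a
  F3 : ∀ a ∉ Δ, ∀ h ∈ P, h a ≠ a → ∀ x ∈ P, ∃ i : ℕ, ∀ g ∈ P, x (g a) = (h ^ i) (g a)
  N_set : ∀ y ∈ N, ∀ z, y z ∈ Δ ↔ z ∈ Δ
  N_norm : ∀ y ∈ N, ∀ x ∈ P, y * x * y⁻¹ ∈ P
  N0_le : N₀ ≤ N
  N0_pres : ∀ w ∈ N₀, ∀ a ∉ Δ, ∃ x ∈ P, x a = w a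

namespace Ctx

variable {α : Type u} {Δ : Finset α} {P N N₀ : Subgroup (Equiv.Perm α)} {p : ℕ}

lemma P_notMem (C : Ctx Δ P N N₀ p) {x : Equiv.Perm α} (hx : x ∈ P) {a : α} (ha : a ∉ Δ) :
    x a ∉ Δ := by
  intro h
  have h3 := C.P_fix x hx _ h
  exact ha (x.injective h3 ▸ h)

lemma N_norm' (C : Ctx Δ P N N₀ p) {y : Equiv.Perm α} (hy : y ∈ N) {g : Equiv.Perm α}
    (hg : g ∈ P) : y⁻¹ * g * y ∈ P := by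
  have := C.N_norm y⁻¹ (N.inv_mem hy) g hg
  simpa using this

lemma multOf (C : Ctx Δ P N N₀ p) {w : Equiv.Perm α} (hw : w ∈ N₀) {h : Equiv.Perm α}
    (hh : h ∈ P) {a : α} (ha : a ∉ Δ) (hha : h a ≠ a) (m : ℕ)
    (hm : ∀ g₀ ∈ P, (w * h * w⁻¹) (g₀ a) = (h ^ m) (g₀ a)) :
    ∀ g ∈ P, ∀ g₀ ∈ P, (w * g * w⁻¹) (g₀ a) = (g ^ m) (g₀ a) := by
  intro g hg g₀ hg₀
  set S : Set α := {b | ∃ g₁ ∈ P, b = g₁ a} with hS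
  have hPS : ∀ x ∈ P, ∀ b ∈ S, x b ∈ S := by
    rintro x hx b ⟨g₁, hg₁, hb⟩
    exact ⟨x * g₁, P.mul_mem hx hg₁, by rw [hb]; rfl⟩
  obtain ⟨i, hi⟩ := C.F3 a ha h hh hha g hg
  have hbS : g₀ a ∈ S := ⟨g₀, hg₀, rfl⟩
  have hbΔ : g₀ a ∉ Δ := C.P_notMem hg₀ ha
  have hwinv : w⁻¹ (g₀ a) ∈ S := by
    obtain ⟨x, hx, hxe⟩ := C.N0_pres w⁻¹ (N₀.inv_mem hw) (g₀ a) hbΔ
    exact ⟨x * g₀, P.mul_mem hx hg₀, by rw [← hxe]; rfl⟩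
  obtain ⟨g₁, hg₁, hg₁e⟩ := hwinv
  have e1 : (w * g * w⁻¹) (g₀ a) = (w * h ^ i * w⁻¹) (g₀ a) := by
    simp only [Equiv.Perm.mul_apply]
    rw [hg₁e, hi g₁ hg₁]
  have e2 : w * h ^ i * w⁻¹ = (w * h * w⁻¹) ^ i := (conj_pow).symm
  have e3 : ((w * h * w⁻¹) ^ i) (g₀ a) = ((h ^ m) ^ i) (g₀ a) :=
    pow_agree (S := S) (by rintro b ⟨g₂, hg₂, hb⟩; rw [hb]; exact hm g₂ hg₂)
      (hPS _ (P.pow_mem hh m)) i _ hbS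
  have e4 : ((h ^ i) ^ m) (g₀ a) = (g ^ m) (g₀ a) :=
    pow_agree (S := S) (by rintro b ⟨g₂, hg₂, hb⟩; rw [hb]; exact (hi g₂ hg₂).symm)
      (hPS _ hg) m _ hbS
  rw [e1, e2, e3, ← pow_mul, mul_comm, pow_mul, e4]

lemma localMult (C : Ctx Δ P N N₀ p) {w : Equiv.Perm α} (hw : w ∈ N₀) {a : α} (ha : a ∉ Δ) :
    ∃ m : ℕ, ∀ g ∈ P, ∀ g₀ ∈ P, (w * g * w⁻¹) (g₀ a) = (g ^ m) (g₀ a) := by
  obtain ⟨h, hh, hha⟩ := C.P_move a ha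
  obtain ⟨m, hm⟩ := C.F3 a ha h hh hha (w * h * w⁻¹) (C.N_norm w (C.N0_le hw) h hh)
  exact ⟨m, C.multOf hw hh ha hha m hm⟩

end Ctx

lemma comm_cent {α : Type u} (P : Subgroup (Equiv.Perm α)) {x y : Equiv.Perm α}
    (hx' : ∀ g ∈ P, x⁻¹ * g * x ∈ P)
    (hy : ∀ g ∈ P, y * g * y⁻¹ ∈ P) (hy' : ∀ g ∈ P, y⁻¹ * g * y ∈ P) {a : α} {m : ℕ}
    (S : Set α) (hS : y⁻¹ a ∈ S) (haS : a ∈ S)
    (hm : ∀ g ∈ P, ∀ b ∈ S, (x * g * x⁻¹) b = (g ^ m) b) :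
    ∀ g ∈ P, ((x * y * x⁻¹ * y⁻¹) * g * (x * y * x⁻¹ * y⁻¹)⁻¹) a = g a := by
  intro g hg
  obtain ⟨g', hg'⟩ : ∃ g', g' = (y * x⁻¹ * y⁻¹) * g * (y * x * y⁻¹) := ⟨_, rfl⟩
  have hg'P : g' ∈ P := by
    have h1 := hy' g hg
    have h2 := hx' _ h1
    have h3 := hy _ h2
    have : g' = y * (x⁻¹ * (y⁻¹ * g * y) * x) * y⁻¹ := by rw [hg']; group
    rw [this]; exact h3
  have e1 : (x * y * x⁻¹ * y⁻¹) * g * (x * y * x⁻¹ * y⁻¹)⁻¹ = x * g' * x⁻¹ := by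
    rw [hg']; group
  have e2 : g = y * (x * (y⁻¹ * g' * y) * x⁻¹) * y⁻¹ := by rw [hg']; group
  have hP1 : y⁻¹ * g' * y ∈ P := hy' g' hg'P
  have e3 : g a = y ((x * (y⁻¹ * g' * y) * x⁻¹) (y⁻¹ a)) := by
    conv_lhs => rw [e2]
    rfl
  have e4 : (y⁻¹ * g' * y) ^ m = y⁻¹ * g' ^ m * y := by
    have := conj_pow (a := y⁻¹) (b := g') (i := m)
    simpa using this
  rw [e1, hm g' hg'P a haS, e3, hm _ hP1 _ hS, e4]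
  simp

namespace Ctx

variable {α : Type u} {Δ : Finset α} {P N N₀ : Subgroup (Equiv.Perm α)} {p : ℕ}

lemma cent_local (C : Ctx Δ P N N₀ p) {x y : Equiv.Perm α} (hx : x ∈ N₀) (hy : y ∈ N₀) :
    ∀ g ∈ P, (x * y * x⁻¹ * y⁻¹) * g * (x * y * x⁻¹ * y⁻¹)⁻¹ = g := by
  intro g hg
  have hD : x * y * x⁻¹ * y⁻¹ ∈ N₀ :=
    N₀.mul_mem (N₀.mul_mem (N₀.mul_mem hx hy) (N₀.inv_mem hx)) (N₀.inv_mem hy)
  ext a
  by_cases ha : a ∈ Δ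
  · rw [C.P_fix _ (C.N_norm _ (C.N0_le hD) g hg) a ha, C.P_fix g hg a ha]
  · obtain ⟨m, hm⟩ := C.localMult hx ha
    refine comm_cent P (a := a) (m := m) (fun g hg => C.N_norm' (C.N0_le hx) hg)
      (fun g hg => C.N_norm y (C.N0_le hy) g hg) (fun g hg => C.N_norm' (C.N0_le hy) hg)
      {b | ∃ g₁ ∈ P, b = g₁ a} ?_ ⟨1, P.one_mem, rfl⟩ ?_ g hg
    · obtain ⟨x', hx', hxe⟩ := C.N0_pres y⁻¹ (N₀.inv_mem hy) a ha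
      exact ⟨x', hx', hxe.symm⟩
    · rintro g hg b ⟨g₁, hg₁, rfl⟩
      exact hm g hg g₁ hg₁

lemma cent_global (C : Ctx Δ P N N₀ p) {w y : Equiv.Perm α} (hw : w ∈ N) (hy : y ∈ N) {m : ℕ}
    (hm : ∀ g ∈ P, w * g * w⁻¹ = g ^ m) :
    ∀ g ∈ P, (w * y * w⁻¹ * y⁻¹) * g * (w * y * w⁻¹ * y⁻¹)⁻¹ = g := by
  intro g hg
  ext a
  exact comm_cent P (a := a) (m := m) (fun g hg => C.N_norm' hw hg)
      (fun g hg => C.N_norm y hy g hg) (fun g hg => C.N_norm' hy hg)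
      Set.univ (Set.mem_univ _) (Set.mem_univ _) (fun g hg b _ => by rw [hm g hg]) g hg

lemma pow_p_fix (C : Ctx Δ P N N₀ p) {D : Equiv.Perm α} (hD : D ∈ N₀)
    (hc : ∀ g ∈ P, D * g * D⁻¹ = g) : ∀ a ∉ Δ, (D ^ p) a = a := by
  intro a ha
  obtain ⟨x, hx, hxa⟩ := C.N0_pres D hD a ha
  have hcomm : ∀ j : ℕ, D * x ^ j = x ^ j * D := by
    intro j
    exact mul_inv_eq_iff_eq_mul.mp (hc (x ^ j) (P.pow_mem hx j))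
  have key : ∀ j : ℕ, (D ^ j) a = (x ^ j) a := by
    intro j
    induction j with
    | zero => simp
    | succ j ih =>
      rw [pow_succ', Equiv.Perm.mul_apply, ih, ← Equiv.Perm.mul_apply, hcomm j,
        Equiv.Perm.mul_apply, ← hxa, ← Equiv.Perm.mul_apply, ← pow_succ]
  rw [key p, C.F2 a ha x hx]

end Ctx

end Cfsg.Agent.Lib.helper96.Miller
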