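import Mathlib
import Cfsg.Agent.Lib.helper96.MillerC

set_option autoImplicit false
set_option linter.unnecessarySimpa false

namespace Cfsg.Agent.Lib.helper96.Miller

open MulAction Subgroup

universe u

namespace Ctx

variable {α : Type u} [Fintype α] [DecidableEq α] {Δ : Finset α}
  {P N N₀ : Subgroup (Equiv.Perm α)} {p : ℕ}

lemma supp_sub (C : Ctx Δ P N N₀ p) {g : Equiv.Perm α} (hg : g ∈ P) : g.support ⊆ Δᶜ := by
  intro z hz
  rw [Finset.mem_compl]
  intro h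
  exact (Equiv.Perm.mem_support.mp hz) (C.P_fix g hg z h)

/-- With at most three orbits and no element of small support, every element of `N₀` acts on
`P` as a global power map. -/
lemma gm (C : Ctx Δ P N N₀ p) (hNSS : ∀ g ∈ P, g ≠ 1 → 2 * p ≤ g.support.card)
    (hcard : (Δᶜ).card ≤ 3 * p) (horb : ∀ a ∉ Δ, (orbit P a).ncard = p) (hp0 : 0 < p)
    {a₁ : α} (ha₁ : a₁ ∉ Δ) {w : Equiv.Perm α} (hw : w ∈ N₀) :
    ∃ m : ℕ, ∀ g ∈ P, w * g * w⁻¹ = g ^ m := by
  classical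
  obtain ⟨m₁, hm₁⟩ := C.localMult hw ha₁
  by_cases hall : ∀ g ∈ P, w * g * w⁻¹ = g ^ m₁
  · exact ⟨m₁, hall⟩
  push Not at hall
  obtain ⟨g, hg, hgne⟩ := hall
  obtain ⟨v, hv⟩ : ∃ v, v = (g ^ m₁)⁻¹ * (w * g * w⁻¹) := ⟨_, rfl⟩
  have hvP : v ∈ P := by
    rw [hv]
    exact P.mul_mem (P.inv_mem (P.pow_mem hg _)) (C.N_norm w (C.N0_le hw) g hg)
  have hv1 : v ≠ 1 := by
    intro h; apply hgne; rw [hv, inv_mul_eq_one] at h; exact h.symm
  have hva : v a₁ = a₁ := by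
    rw [hv, Equiv.Perm.mul_apply]
    have := hm₁ g hg 1 P.one_mem
    rw [Equiv.Perm.one_apply] at this
    rw [this, Equiv.Perm.inv_eq_iff_eq]
  have hvO : ∀ b ∈ orbit P a₁, v b = b := by
    rintro b ⟨x, rfl⟩
    exact C.F1 a₁ ha₁ v hvP x.1 x.2 hva
  obtain ⟨O₁, hO₁⟩ : ∃ O₁ : Finset α, O₁ = (orbit P a₁).toFinset := ⟨_, rfl⟩
  have hO₁card : O₁.card = p := by
    rw [hO₁, ← Set.ncard_eq_toFinset_card', horb a₁ ha₁]
  have hO₁sub : O₁ ⊆ Δᶜ := by
    intro b hb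
    rw [hO₁, Set.mem_toFinset] at hb
    obtain ⟨x, rfl⟩ := hb
    rw [Finset.mem_compl]
    exact C.P_notMem x.2 ha₁
  have hvsupp : v.support ⊆ Δᶜ \ O₁ := by
    intro z hz
    rw [Finset.mem_sdiff]
    refine ⟨C.supp_sub hvP hz, fun h => ?_⟩
    rw [hO₁, Set.mem_toFinset] at h
    exact (Equiv.Perm.mem_support.mp hz) (hvO z h)
  have hsd : (Δᶜ \ O₁).card ≤ 2 * p := by
    rw [Finset.card_sdiff_of_subset hO₁sub, hO₁card]; omega
  obtain ⟨a₂, ha₂⟩ : ∃ a₂, a₂ ∈ v.support := by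
    by_contra h
    push Not at h
    exact hv1 (Equiv.Perm.support_eq_empty_iff.mp (Finset.eq_empty_of_forall_notMem h))
  have ha₂Δ : a₂ ∉ Δ := Finset.mem_compl.mp (C.supp_sub hvP ha₂)
  obtain ⟨m₂, hm₂⟩ := C.localMult hw ha₂Δ
  have hwv : w * v * w⁻¹ = v ^ m₂ := by
    by_contra hne
    obtain ⟨v', hv'⟩ : ∃ v', v' = (v ^ m₂)⁻¹ * (w * v * w⁻¹) := ⟨_, rfl⟩
    have hv'P : v' ∈ P := by
      rw [hv']
      exact P.mul_mem (P.inv_mem (P.pow_mem hvP _)) (C.N_norm w (C.N0_le hw) v hvP)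
    have hv'1 : v' ≠ 1 := by
      intro h; apply hne; rw [hv', inv_mul_eq_one] at h; exact h.symm
    have hv'a₂ : v' a₂ = a₂ := by
      rw [hv', Equiv.Perm.mul_apply]
      have := hm₂ v hvP 1 P.one_mem
      rw [Equiv.Perm.one_apply] at this
      rw [this, Equiv.Perm.inv_eq_iff_eq]
    have hv'sub : v'.support ⊆ (Δᶜ \ O₁).erase a₂ := by
      intro z hz
      rw [Finset.mem_erase, Finset.mem_sdiff]
      refine ⟨fun h => (Equiv.Perm.mem_support.mp hz) (h ▸ hv'a₂), C.supp_sub hv'P hz,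
        fun h => ?_⟩
      rw [hO₁, Set.mem_toFinset] at h
      apply Equiv.Perm.mem_support.mp hz
      have h1 : w⁻¹ z ∈ orbit P a₁ := by
        obtain ⟨x, rfl⟩ := h
        obtain ⟨x', hx', hxe⟩ := C.N0_pres w⁻¹ (N₀.inv_mem hw) (x.1 a₁) (C.P_notMem x.2 ha₁)
        change w⁻¹ (x.1 a₁) ∈ orbit P a₁
        rw [← hxe]
        exact ⟨⟨x' * x.1, P.mul_mem hx' x.2⟩, rfl⟩
      have h2 : (w * v * w⁻¹) z = z := by
        simp only [Equiv.Perm.mul_apply]
        rw [hvO _ h1]; simp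
      have h3 : (v ^ m₂) z = z := Equiv.Perm.pow_apply_eq_self_of_apply_eq_self (hvO z h) m₂
      rw [hv', Equiv.Perm.mul_apply, h2, Equiv.Perm.inv_eq_iff_eq, h3]
    have hc := Finset.card_le_card hv'sub
    rw [Finset.card_erase_of_mem (hvsupp ha₂)] at hc
    have := hNSS v' hv'P hv'1
    have hpos : 0 < (Δᶜ \ O₁).card := Finset.card_pos.mpr ⟨a₂, hvsupp ha₂⟩
    omega
  have hMv : ∀ a ∈ v.support, ∀ g' ∈ P, (w * g' * w⁻¹) a = (g' ^ m₂) a := by
    intro a ha g' hg'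
    have haΔ : a ∉ Δ := Finset.mem_compl.mp (C.supp_sub hvP ha)
    have := C.multOf hw hvP haΔ (Equiv.Perm.mem_support.mp ha) m₂ (fun g₀ _ => by rw [hwv])
      g' hg' 1 P.one_mem
    simpa using this
  refine ⟨m₂, fun g' hg' => ?_⟩
  by_contra hne
  obtain ⟨u, hu⟩ : ∃ u, u = (g' ^ m₂)⁻¹ * (w * g' * w⁻¹) := ⟨_, rfl⟩
  have huP : u ∈ P := by
    rw [hu]
    exact P.mul_mem (P.inv_mem (P.pow_mem hg' _)) (C.N_norm w (C.N0_le hw) g' hg')
  have hu1 : u ≠ 1 := by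
    intro h; apply hne; rw [hu, inv_mul_eq_one] at h; exact h.symm
  have husub : u.support ⊆ Δᶜ \ v.support := by
    intro z hz
    rw [Finset.mem_sdiff]
    refine ⟨C.supp_sub huP hz, fun h => ?_⟩
    apply Equiv.Perm.mem_support.mp hz
    rw [hu, Equiv.Perm.mul_apply, hMv z h g' hg', Equiv.Perm.inv_eq_iff_eq]
  have hc := Finset.card_le_card husub
  rw [Finset.card_sdiff_of_subset (C.supp_sub hvP)] at hc
  have h1 := hNSS v hvP hv1
  have h2 := hNSS u huP hu1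
  have h3 := Finset.card_le_card (C.supp_sub hvP)
  omega

/-- The final step: a centralising element of `N₀` acting nontrivially on `Δ` with order prime
to `p` there gives an element of small support. -/
lemma tail (C : Ctx Δ P N N₀ p) (G : Subgroup (Equiv.Perm α)) (hprim : IsPreprimitive G α)
    {r : ℕ} (hG : IsMultiplyPretransitive G α (r + 1)) (hrn : r + 1 ≤ Fintype.card α)
    (hΔ : Δ.card = r) (hNG : N ≤ G) {D : Equiv.Perm α} (hD : D ∈ N₀)
    (hc : ∀ g ∈ P, D * g * D⁻¹ = g) {a : α} (hDa : D a ≠ a) {q : ℕ}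
    (hq : (D ^ q) a = a) (hqp : Nat.Coprime q p) : alternatingGroup α ≤ G := by
  have h1 : ∀ b ∉ Δ, (D ^ p) b = b := C.pow_p_fix hD hc
  have h2 : (D ^ p) a ≠ a := by
    intro h
    have hp1 : Function.IsPeriodicPt D p a := by
      rw [Function.IsPeriodicPt, Function.IsFixedPt, Equiv.Perm.iterate_eq_pow]; exact h
    have hp2 : Function.IsPeriodicPt D q a := by
      rw [Function.IsPeriodicPt, Function.IsFixedPt, Equiv.Perm.iterate_eq_pow]; exact hq
    have hp3 := hp2.gcd hp1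
    rw [hqp.gcd_eq_one] at hp3
    exact hDa (by simpa [Function.IsPeriodicPt, Function.IsFixedPt] using hp3)
  have hsub : (D ^ p).support ⊆ Δ := by
    intro z hz
    by_contra hzΔ
    exact (Equiv.Perm.mem_support.mp hz) (h1 z hzΔ)
  have hcs := Finset.card_le_card hsub
  exact small_support G hprim hG hrn (G.pow_mem (hNG (C.N0_le hD)) p)
    (by intro h; apply h2; rw [h]; rfl) (by omega) (by omega)

end Ctx

end Cfsg.Agent.Lib.helper96.Miller
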