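/-
S5239 (architect helper79), leaf NONUNIF, part (c) core (helper96): the cube of a non-uniform element
outside `gam G 2` has depth exactly 3 (for `n ≥ 5`), from the shift property (b), `com h x ∉ gam G 3` (c1)
and `h ^ 3 ∈ gam G 2` (c3).
-/
import Mathlib
import Cfsg.Agent.Lib.helper79.PearlX
import Cfsg.Agent.Lib.helper80.PearlF34

set_option autoImplicit false

namespace Cfsg.Agent.Lib.helper79.P3

open Cfsg.Agent.Lib.helper68

/-- A product identity for three pairwise commuting elements. -/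
theorem h96_p3_comm3 {M : Type*} [Group M] (c d e : M) (hdc : d * c = c * d) (hec : e * c = c * e)
    (hed : e * d = d * e) : c * d * (d * e) * (c * d) * c = c ^ 3 * (d ^ 3 * e) := by
  have hdc' : ∀ t : M, d * (c * t) = c * (d * t) := fun t => by rw [← mul_assoc, hdc, mul_assoc]
  have hec' : ∀ t : M, e * (c * t) = c * (e * t) := fun t => by rw [← mul_assoc, hec, mul_assoc]
  have hed' : ∀ t : M, e * (d * t) = d * (e * t) := fun t => by rw [← mul_assoc, hed, mul_assoc]
  simp only [pow_succ, pow_zero, one_mul, mul_assoc, hdc', hec', hec, hed]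

/-- The commutator of a cube. -/
theorem h96_p3_com_cube {M : Type*} [Group M] (h x : M) :
    com (h ^ 3) x = (h⁻¹ * h⁻¹ * com h x * h * h) * (h⁻¹ * com h x * h) * com h x := by
  have h3 : h ^ 3 = h * h * h := by rw [pow_succ, pow_succ, pow_one]
  rw [h3]
  unfold com
  group

/-- NONUNIF (c), core. -/
theorem h96_p3_nu_c_core {G : Type*} [Group G] [Finite G] (n : ℕ) (hn : 5 ≤ n) (hG : Nat.card G = 3 ^ n)
    (x : G) (hx : x ^ 3 = 1) (hC : Nat.card (Subgroup.centralizer ({x} : Set G)) = 3 ^ 2)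
    (hab : ∀ a ∈ gam G 2, ∀ b ∈ gam G 2, a * b = b * a) (h : G)
    (hb : ∀ j, 2 ≤ j → ∀ v ∈ gam G j, com v h ∈ gam G (j + 2))
    (hc1 : com h x ∉ gam G 3) (hc3 : h ^ 3 ∈ gam G 2) :
    h ^ 3 ∈ gam G 3 ∧ h ^ 3 ∉ gam G 4 := by
  have : Fact (Nat.Prime 3) := ⟨Nat.prime_three⟩
  have hn3 : 3 ≤ n := by omega
  have htop : ∀ g : G, g ∈ gam G 1 := fun g => by
    show g ∈ (⊤ : Subgroup G).lowerCentralSeries 0
    exact Subgroup.mem_top g
  have hnil : gam G n = ⊥ := by
    have h1 := h79_px_card 3 n hG x hC hn3 n (by omega) le_rfl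
    rw [Nat.sub_self, pow_zero] at h1
    exact Subgroup.card_eq_one.mp h1
  have honto : ∀ w, 1 ≤ w → ∀ y ∈ gam G (w + 1), ∃ g ∈ gam G w, com x g = y := by
    intro w hw y hy
    rcases Nat.lt_or_ge n (w + 1) with h3 | h3
    · have hy1 : y = 1 := by
        have : y ∈ gam G n := gam_antitone (by omega) hy
        rw [hnil] at this
        exact Subgroup.mem_bot.mp this
      exact ⟨1, Subgroup.one_mem _, by simp [com, hy1]⟩
    · exact h79_px_onto 3 n hG x hC hn3 w hw h3 y hy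
  have huni : ∀ i, 2 ≤ i → i + 2 ≤ n → ∀ m ∈ gam G i, m ∉ gam G (i + 1) →
      com m x ∉ gam G (i + 2) := fun i hi hin m hm hm' =>
    (h79_px_unis 3 n hG x hC hn3 i hi hin m hm hm').2
  have hf34 := Cfsg.Agent.Lib.helper80.PearlF34.pearl_f34 3 n x hx hnil honto huni
  -- the elements c, d, e
  have hc2 : com h x ∈ gam G 2 := com_mem (htop h) (htop x)
  have hd4 : com (com h x) h ∈ gam G 4 := hb 2 le_rfl _ hc2
  have he6 : com (com (com h x) h) h ∈ gam G 6 := hb 4 (by norm_num) _ hd4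
  have hd2 : com (com h x) h ∈ gam G 2 := gam_antitone (by norm_num) hd4
  have he2 : com (com (com h x) h) h ∈ gam G 2 := gam_antitone (by norm_num) he6
  set c := com h x with hc
  set d := com c h with hd
  set e := com d h with he
  have e1 : h⁻¹ * c * h = c * d := by rw [hd]; unfold com; group
  have e2 : h⁻¹ * h⁻¹ * c * h * h = c * d * (d * e) := by
    have : h⁻¹ * d * h = d * e := by rw [he]; unfold com; group
    calc h⁻¹ * h⁻¹ * c * h * h = h⁻¹ * (h⁻¹ * c * h) * h := by group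
      _ = h⁻¹ * (c * d) * h := by rw [e1]
      _ = (h⁻¹ * c * h) * (h⁻¹ * d * h) := by group
      _ = c * d * (d * e) := by rw [e1, this]
  have hW : com (h ^ 3) x = c ^ 3 * (d ^ 3 * e) := by
    rw [h96_p3_com_cube, ← hc, e2, e1]
    exact h96_p3_comm3 c d e (hab d hd2 c hc2) (hab e he2 c hc2) (hab e he2 d hd2)
  -- depths
  have hc3a : c ^ 3 ∈ gam G 4 := (hf34 2 le_rfl c hc2).1
  have hc3b : c ^ 3 ∉ gam G 5 := (hf34 2 le_rfl c hc2).2 (by omega) hc1
  have hd3 : d ^ 3 ∈ gam G 6 := (hf34 4 (by norm_num) d hd4).1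
  have hde6 : d ^ 3 * e ∈ gam G 6 := Subgroup.mul_mem _ hd3 he6
  have hW4 : com (h ^ 3) x ∈ gam G 4 := by
    rw [hW]
    exact Subgroup.mul_mem _ hc3a (gam_antitone (by norm_num) hde6)
  have hW5 : com (h ^ 3) x ∉ gam G 5 := by
    rw [hW]
    intro hcon
    apply hc3b
    have h5 : d ^ 3 * e ∈ gam G 5 := gam_antitone (by norm_num) hde6
    have := Subgroup.mul_mem _ hcon (Subgroup.inv_mem _ h5)
    rwa [mul_inv_cancel_right] at this
  constructor
  · by_contra h3
    exact (h79_px_unis 3 n hG x hC hn3 2 le_rfl (by omega) (h ^ 3) hc3 h3).2 hW4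
  · intro h4
    exact hW5 (com_mem h4 (htop x))

end Cfsg.Agent.Lib.helper79.P3
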