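import Mathlib

set_option autoImplicit false

namespace Cfsg.Agent.Lib.helper96.S4067

open Subgroup MulAction

variable {G : Type*} [Group G] [Finite G]

/-- K: the number of `Aut`-orbits is at most the number of conjugacy classes. -/
theorem card_autOrbits_le_card_conjClasses :
    Nat.card (orbitRel.Quotient (MulAut G) G) ≤ Nat.card (ConjClasses G) := by
  let f : ConjClasses G → orbitRel.Quotient (MulAut G) G :=
    Quotient.lift (fun g : G => (Quotient.mk'' g : orbitRel.Quotient (MulAut G) G)) (by
      intro a b hab
      obtain ⟨c, hcab⟩ := isConj_iff.mp hab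
      apply Quotient.sound'
      show a ∈ orbit (MulAut G) b
      refine ⟨MulAut.conj c⁻¹, ?_⟩
      show MulAut.conj c⁻¹ b = a
      rw [MulAut.conj_apply, ← hcab]
      group)
  have hf : Function.Surjective f := by
    intro q
    induction q using Quotient.inductionOn' with
    | h g => exact ⟨ConjClasses.mk g, rfl⟩
  exact Nat.card_le_card_of_surjective f hf

/-- J: for a nonabelian group the index of the centre is at least `p ^ 2`. -/
theorem sq_minFac_le_index_center (hna : ¬ IsMulCommutative G) :
    (Nat.card G).minFac ^ 2 ≤ (center G).index := by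
  by_contra hlt
  push Not at hlt
  have hjn : (center G).index ∣ Nat.card G := Subgroup.index_dvd_card _
  have hj1 : (center G).index ≠ 1 := by
    intro h
    have htop : center G = ⊤ := Subgroup.index_eq_one.mp h
    apply hna
    refine ⟨⟨fun a b => ?_⟩⟩
    have hb : b ∈ center G := htop ▸ mem_top b
    exact mem_center_iff.mp hb a
  have hj0 : (center G).index ≠ 0 := Subgroup.index_ne_zero_of_finite
  have hjp : (center G).index.Prime := by
    have hq := Nat.minFac_prime hj1
    have hqj := Nat.minFac_dvd (center G).index
    obtain ⟨m, hm⟩ := hqj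
    have hqp : (Nat.card G).minFac ≤ (center G).index.minFac :=
      Nat.minFac_le_of_dvd hq.two_le ((Nat.minFac_dvd _).trans hjn)
    by_cases hm1 : m = 1
    · rw [hm1, mul_one] at hm
      rw [hm]; exact hq
    · exfalso
      have hm0 : m ≠ 0 := by
        rintro rfl
        rw [mul_zero] at hm
        exact hj0 hm
      have hmn : m ∣ Nat.card G := (Dvd.intro_left _ hm.symm).trans hjn
      have hmp : (Nat.card G).minFac ≤ m :=
        le_trans (Nat.minFac_le_of_dvd (Nat.minFac_prime hm1).two_le ((Nat.minFac_dvd m).trans hmn))
          (Nat.minFac_le (Nat.pos_of_ne_zero hm0))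
      have h2 : (Nat.card G).minFac ^ 2 ≤ (center G).index := by
        rw [hm, sq]; exact Nat.mul_le_mul hqp hmp
      omega
  have hcard : Nat.card (G ⧸ center G) = (center G).index := rfl
  have : Fact (center G).index.Prime := ⟨hjp⟩
  have : IsCyclic (G ⧸ center G) := isCyclic_of_prime_card hcard
  exact hna (MonoidHom.isMulCommutative_of_isCyclic_of_ker_le_center (QuotientGroup.mk' (center G))
    (by simp))

end Cfsg.Agent.Lib.helper96.S4067
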