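import Mathlib

set_option autoImplicit false

namespace Cfsg.Agent.Lib.helper96.S4067

open Subgroup MulAction
open scoped commutatorElement

variable {G : Type*} [Group G] [Finite G]

/-- In a class-2 group `g ↦ ⁅g, x⁆` is a homomorphism into the commutator subgroup. -/
def commHomLeft (hc : commutator G ≤ center G) (x : G) : G →* commutator G where
  toFun g := ⟨⁅g, x⁆, Subgroup.commutator_mem_commutator (mem_top g) (mem_top x)⟩
  map_one' := by
    ext
    simp
  map_mul' g h := by
    ext
    have hz : ⁅h, x⁆ ∈ center G :=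
      hc (Subgroup.commutator_mem_commutator (mem_top h) (mem_top x))
    have h1 := mem_center_iff.mp hz g
    have h2 := mem_center_iff.mp hz ⁅g, x⁆
    show ⁅g * h, x⁆ = ⁅g, x⁆ * ⁅h, x⁆
    rw [h2]
    simp only [commutatorElement_def] at h1 ⊢
    calc g * h * x * (g * h)⁻¹ * x⁻¹ = (g * (h * x * h⁻¹ * x⁻¹)) * x * g⁻¹ * x⁻¹ := by group
      _ = ((h * x * h⁻¹ * x⁻¹) * g) * x * g⁻¹ * x⁻¹ := by rw [h1]
      _ = h * x * h⁻¹ * x⁻¹ * (g * x * g⁻¹ * x⁻¹) := by group

theorem commHomLeft_apply (hc : commutator G ≤ center G) (x g : G) :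
    (commHomLeft hc x g : G) = ⁅g, x⁆ := rfl

theorem commHomLeft_ker (hc : commutator G ≤ center G) (x : G) :
    (commHomLeft hc x).ker = centralizer ({x} : Set G) := by
  ext g
  rw [MonoidHom.mem_ker, mem_centralizer_iff]
  constructor
  · intro h k hk
    rw [Set.mem_singleton_iff.mp hk]
    have h' : ⁅g, x⁆ = 1 := by
      have := congrArg Subtype.val h
      simpa [commHomLeft_apply] using this
    exact ((commutatorElement_eq_one_iff_commute.mp h').eq).symm
  · intro h
    have h' : g * x = x * g := (h x rfl).symm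
    ext
    show ⁅g, x⁆ = 1
    exact commutatorElement_eq_one_iff_commute.mpr h'

theorem commHomLeft_surjective {p : ℕ} (hp : p.Prime) (hc : commutator G ≤ center G)
    (hcard : Nat.card (commutator G) = p) (x : G) (hx : x ∉ center G) :
    Function.Surjective (commHomLeft hc x) := by
  have : Fact (Nat.card (commutator G)).Prime := ⟨hcard ▸ hp⟩
  rw [← MonoidHom.range_eq_top]
  rcases (commHomLeft hc x).range.eq_bot_or_eq_top_of_prime_card with h | h
  · exfalso
    apply hx
    rw [mem_center_iff]
    intro g
    have hg : commHomLeft hc x g ∈ (commHomLeft hc x).range := ⟨g, rfl⟩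
    rw [h, mem_bot] at hg
    have h' : ⁅g, x⁆ = 1 := by
      have := congrArg Subtype.val hg
      simpa [commHomLeft_apply] using this
    exact (commutatorElement_eq_one_iff_commute.mp h').eq
  · exact h

/-- F3 -/
theorem index_centralizer_eq {p : ℕ} (hp : p.Prime) (hc : commutator G ≤ center G)
    (hcard : Nat.card (commutator G) = p) (x : G) (hx : x ∉ center G) :
    (centralizer ({x} : Set G)).index = p := by
  rw [← commHomLeft_ker hc x, Subgroup.index_ker,
    MonoidHom.range_eq_top.mpr (commHomLeft_surjective hp hc hcard x hx), Subgroup.card_top, hcard]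

/-- L -/
theorem mul_card_le_card_orbit {p : ℕ} (hp : p.Prime) (hc : commutator G ≤ center G)
    (hcard : Nat.card (commutator G) = p) (x : G) (hx : x ∉ center G)
    {ι : Type*} [Finite ι] (f : ι → G) (hf : ∀ i, f i ∈ orbit (MulAut G) x)
    (hinj : ∀ i j, (f i)⁻¹ * f j ∈ commutator G → i = j) :
    p * Nat.card ι ≤ Nat.card (orbit (MulAut G) x) := by
  have hmem : ∀ (i : ι) (b : commutator G), f i * (b : G) ∈ orbit (MulAut G) x := by
    intro i b
    obtain ⟨φ, hφ⟩ := hf i
    have hφ' : φ x = f i := hφ
    have hfi : f i ∉ center G := by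
      intro h
      apply hx
      rw [mem_center_iff] at h ⊢
      intro g
      have := h (φ g)
      rw [← hφ', ← map_mul, ← map_mul] at this
      exact φ.injective this
    obtain ⟨g, hg⟩ := commHomLeft_surjective hp hc hcard (f i) hfi b
    have hb : (b : G) = ⁅g, f i⁆ := by rw [← hg]; rfl
    have hbz : (b : G) ∈ center G := hc b.2
    refine ⟨MulAut.conj g * φ, ?_⟩
    show MulAut.conj g (φ x) = f i * (b : G)
    rw [hφ', MulAut.conj_apply, mem_center_iff.mp hbz (f i), hb, commutatorElement_def]
    group
  let F : ι × commutator G → orbit (MulAut G) x := fun q => ⟨f q.1 * (q.2 : G), hmem q.1 q.2⟩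
  have hF : Function.Injective F := by
    rintro ⟨i, b⟩ ⟨j, b'⟩ h
    have h' : f i * (b : G) = f j * (b' : G) := congrArg Subtype.val h
    have hij : i = j := by
      apply hinj
      have e : (f i)⁻¹ * f j = (b : G) * (b' : G)⁻¹ := by
        rw [inv_mul_eq_iff_eq_mul, ← mul_assoc, h', mul_assoc, mul_inv_cancel, mul_one]
      rw [e]
      exact (commutator G).mul_mem b.2 ((commutator G).inv_mem b'.2)
    subst hij
    have hbb : (b : G) = b' := mul_left_cancel h'
    rw [Subtype.ext hbb]
  have := Nat.card_le_card_of_injective F hF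
  rw [Nat.card_prod, hcard, mul_comm] at this
  exact this

end Cfsg.Agent.Lib.helper96.S4067
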