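import Mathlib

set_option autoImplicit false

namespace Cfsg.Agent.Lib.helper96

variable (F K : Type*) [Field F] [Field K] [Algebra F K]

/-- The Singer group: the multiplications by the nonzero elements of `K`, inside `GL_F(K)`. -/
def singer : Subgroup (Module.End F K)ˣ :=
  (Units.map ((Algebra.lmul F K : K →ₐ[F] Module.End F K) : K →* Module.End F K)).range

variable {F K}

theorem mem_singer_iff (u : (Module.End F K)ˣ) :
    u ∈ singer F K ↔ ∃ a : Kˣ, (u : Module.End F K) = Algebra.lmul F K (a : K) := by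
  constructor
  · rintro ⟨a, rfl⟩; exact ⟨a, rfl⟩
  · rintro ⟨a, ha⟩; exact ⟨a, Units.ext ha.symm⟩

theorem lmul_unit_mem_singer (a : Kˣ) :
    Units.map ((Algebra.lmul F K : K →ₐ[F] Module.End F K) : K →* Module.End F K) a ∈ singer F K :=
  ⟨a, rfl⟩

/-- The elements `a` of `K` such that multiplication by `a` is a `g`-conjugate of a
multiplication. -/
def conjSub (g : (Module.End F K)ˣ) : Subalgebra F K where
  carrier := {a | ∃ b : K, Algebra.lmul F K a =
    (g : Module.End F K) * Algebra.lmul F K b * ((g⁻¹ : (Module.End F K)ˣ) : Module.End F K)}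
  mul_mem' := by
    rintro a a' ⟨b, hb⟩ ⟨b', hb'⟩
    refine ⟨b * b', ?_⟩
    rw [map_mul, map_mul, hb, hb']
    simp only [mul_assoc, Units.inv_mul_cancel_left]
  one_mem' := ⟨1, by rw [map_one, mul_one, Units.mul_inv]⟩
  add_mem' := by
    rintro a a' ⟨b, hb⟩ ⟨b', hb'⟩
    exact ⟨b + b', by rw [map_add, map_add, hb, hb', mul_add, add_mul]⟩
  zero_mem' := ⟨0, by simp⟩
  algebraMap_mem' := by
    intro c
    refine ⟨algebraMap F K c, ?_⟩
    rw [AlgHom.commutes, ← Algebra.commutes c (g : Module.End F K), mul_assoc, Units.mul_inv,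
      mul_one]

theorem mem_conjSub (g : (Module.End F K)ˣ) (a : K) :
    a ∈ conjSub g ↔ ∃ b : K, Algebra.lmul F K a =
      (g : Module.End F K) * Algebra.lmul F K b * ((g⁻¹ : (Module.End F K)ˣ) : Module.End F K) :=
  Iff.rfl

/-- An element of the intersection of the Singer group with its `g`-conjugate is a multiplication
by an element of `conjSub g`. -/
theorem exists_of_mem_inf (g : (Module.End F K)ˣ) (u : (Module.End F K)ˣ)
    (hu : u ∈ (singer F K).map (MulAut.conj g).toMonoidHom ⊓ singer F K) :
    ∃ a : Kˣ, (a : K) ∈ conjSub g ∧ (u : Module.End F K) = Algebra.lmul F K (a : K) := by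
  obtain ⟨hu1, hu2⟩ := hu
  obtain ⟨a, ha⟩ := (mem_singer_iff u).mp hu2
  obtain ⟨v, hv, hvu⟩ := hu1
  obtain ⟨b, hb⟩ := (mem_singer_iff v).mp hv
  refine ⟨a, ⟨(b : K), ?_⟩, ha⟩
  rw [← ha, ← hb, ← hvu]
  simp [MulAut.conj_apply]

/-- If every multiplication is a `g`-conjugate of a multiplication, then `g` normalises the
Singer group. -/
theorem map_conj_eq_of_conjSub_eq_top [Finite K] (g : (Module.End F K)ˣ)
    (h : ∀ a : K, a ∈ conjSub g) :
    (singer F K).map (MulAut.conj g).toMonoidHom = singer F K := by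
  have hfin : Finite (Module.End F K)ˣ := by
    have : Finite (Module.End F K) := Finite.of_injective (fun f : Module.End F K => (f : K → K))
      (fun f g h => LinearMap.ext (congrFun h))
    exact Finite.of_injective _ Units.val_injective
  symm
  apply Subgroup.eq_of_le_of_card_ge
  · intro u hu
    obtain ⟨a, ha⟩ := (mem_singer_iff u).mp hu
    obtain ⟨b, hb⟩ := (mem_conjSub g a).mp (h a)
    have hb0 : b ≠ 0 := by
      rintro rfl
      rw [map_zero, mul_zero, zero_mul] at hb
      have : (a : K) = 0 := Algebra.lmul_injective (R := F) (by rw [hb, map_zero])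
      exact a.ne_zero this
    refine ⟨Units.map ((Algebra.lmul F K : K →ₐ[F] Module.End F K) : K →* Module.End F K)
      (Units.mk0 b hb0), lmul_unit_mem_singer _, Units.ext ?_⟩
    rw [ha, hb]
    simp [MulAut.conj_apply]
  · rw [Subgroup.card_map_of_injective (MulEquiv.injective _)]

end Cfsg.Agent.Lib.helper96
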