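import Mathlib
import Cfsg.Agent.Lib.helper54.FStar

/-!
Thompson–Wielandt configuration (helper96), part A: tools, the symmetric configuration `Cfg`,
the key core lemma `lemmaC` and the `p`-group step `factP`.
-/

set_option autoImplicit false
set_option linter.unusedSectionVars false
set_option linter.style.haveILetI false

namespace Cfsg.Agent.Lib.helper96.TW

open Cfsg Cfsg.Agent.Lib.helper53
open Cfsg.Agent.Lib.helper54 (normalizer_le_normalizer_pCoreOf isPGroup_of_forall_coprime_eq_one)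
open Cfsg.Agent.Lib.helper28 (layer_map_equiv)

variable {G : Type*} [Group G]

/-- The core of `S` in `H`, as a subgroup of the ambient group. -/
def coreIn (H S : Subgroup G) : Subgroup G := ((S.subgroupOf H).normalCore).map H.subtype

/-- The layer of `X`, as a subgroup of the ambient group. -/
def EOf (X : Subgroup G) : Subgroup G := (layer ↥X).map X.subtype

/-- Elements of `B` of order prime to `p`. -/
def copSet (p : ℕ) (B : Subgroup G) : Set G := {b | b ∈ B ∧ (orderOf b).Coprime p}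

theorem mem_copSet {p : ℕ} {B : Subgroup G} {b : G} :
    b ∈ copSet p B ↔ b ∈ B ∧ (orderOf b).Coprime p := Iff.rfl

/-- Elements of `X` acting trivially on `X1 / O_p(X1)`. -/
def cSet (p : ℕ) (X X1 : Subgroup G) : Set G :=
  {c | c ∈ X ∧ ∀ x ∈ X1, c * x * c⁻¹ * x⁻¹ ∈ pCoreOf p X1}

theorem mem_cSet {p : ℕ} {X X1 : Subgroup G} {c : G} :
    c ∈ cSet p X X1 ↔ c ∈ X ∧ ∀ x ∈ X1, c * x * c⁻¹ * x⁻¹ ∈ pCoreOf p X1 := Iff.rfl

/-- The Thompson–Wielandt configuration, symmetric in the two point stabilizers. -/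
structure Cfg (X Y X1 Y1 A B : Subgroup G) : Prop where
  nX : ∀ N : Subgroup G, N ≠ ⊥ → N ≤ X → X ≤ Subgroup.normalizer (N : Set G) →
    Subgroup.normalizer (N : Set G) ≤ X
  nY : ∀ N : Subgroup G, N ≠ ⊥ → N ≤ Y → Y ≤ Subgroup.normalizer (N : Set G) →
    Subgroup.normalizer (N : Set G) ≤ Y
  nle : ¬ Y ≤ X
  nle' : ¬ X ≤ Y
  X1X : X1 ≤ X
  X1Y : X1 ≤ Y
  XnX1 : X ≤ Subgroup.normalizer (X1 : Set G)
  coreX : ∀ N : Subgroup G, N ≤ X → N ≤ Y → X ≤ Subgroup.normalizer (N : Set G) → N ≤ X1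
  Y1Y : Y1 ≤ Y
  Y1X : Y1 ≤ X
  YnY1 : Y ≤ Subgroup.normalizer (Y1 : Set G)
  coreY : ∀ N : Subgroup G, N ≤ Y → N ≤ X → Y ≤ Subgroup.normalizer (N : Set G) → N ≤ Y1
  AX1 : A ≤ X1
  AY1 : A ≤ Y1
  XnA : X ≤ Subgroup.normalizer (A : Set G)
  BX1 : B ≤ X1
  BY1 : B ≤ Y1
  YnB : Y ≤ Subgroup.normalizer (B : Set G)
  hA : A ≠ ⊥
  hB : B ≠ ⊥
  cardP : ∀ p : ℕ, Nat.card (pCoreOf p X) = Nat.card (pCoreOf p Y)
  cardE : Nat.card (EOf X) = Nat.card (EOf Y)

theorem Cfg.symm {X Y X1 Y1 A B : Subgroup G} (h : Cfg X Y X1 Y1 A B) : Cfg Y X Y1 X1 B A :=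
  { nX := h.nY, nY := h.nX, nle := h.nle', nle' := h.nle,
    X1X := h.Y1Y, X1Y := h.Y1X, XnX1 := h.YnY1, coreX := h.coreY,
    Y1Y := h.X1X, Y1X := h.X1Y, YnY1 := h.XnX1, coreY := h.coreX,
    AX1 := h.BY1, AY1 := h.BX1, XnA := h.YnB,
    BX1 := h.AY1, BY1 := h.AX1, YnB := h.XnA,
    hA := h.hB, hB := h.hA,
    cardP := fun p => (h.cardP p).symm, cardE := h.cardE.symm }

/-! ### Tools -/

/-- `zb` of order prime to `p`, with `z` a `p`-element normalizing `N ∋ b`: then `zb ∈ N`. -/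
theorem cop_mem {p : ℕ} (N : Subgroup G) (z b : G)
    (hz : z ∈ Subgroup.normalizer (N : Set G)) (hb : b ∈ N) (k : ℕ) (hzk : z ^ (p ^ k) = 1)
    (hcop : (orderOf (z * b)).Coprime p) : z * b ∈ N := by
  have key : ∀ j : ℕ, ∃ n ∈ N, (z * b) ^ j = z ^ j * n := by
    intro j
    induction j with
    | zero => exact ⟨1, N.one_mem, by simp⟩
    | succ j ih =>
      obtain ⟨n, hn, he⟩ := ih
      have hz' : z⁻¹ ∈ Subgroup.normalizer (N : Set G) := Subgroup.inv_mem _ hz
      have h1 : z⁻¹ * n * z ∈ N := by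
        have := (Subgroup.mem_normalizer_iff.mp hz' n).mp hn
        rwa [inv_inv] at this
      refine ⟨z⁻¹ * n * z * b, N.mul_mem h1 hb, ?_⟩
      rw [pow_succ, he, pow_succ]
      simp only [mul_assoc, mul_inv_cancel_left]
  obtain ⟨n, hn, he⟩ := key (p ^ k)
  rw [hzk, one_mul] at he
  have hc : (p ^ k).Coprime (orderOf (z * b)) := (Nat.Coprime.pow_right k hcop).symm
  obtain ⟨m, hm⟩ := exists_pow_eq_self_of_coprime hc
  have h2 : z * b = n ^ m := by rw [← he]; exact hm.symm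
  rw [h2]
  exact N.pow_mem hn m

theorem pow_eq_one_of_mem {p : ℕ} {Q : Subgroup G} (hQ : IsPGroup p Q) {z : G} (hz : z ∈ Q) :
    ∃ k : ℕ, z ^ (p ^ k) = 1 := by
  obtain ⟨k, hk⟩ := hQ ⟨z, hz⟩
  refine ⟨k, ?_⟩
  have := congrArg Subtype.val hk
  simpa using this

theorem orderOf_conj_eq (c b : G) : orderOf (c * b * c⁻¹) = orderOf b := by
  rw [← MulAut.conj_apply, MulEquiv.orderOf_eq]

theorem conj_mem_of_mem_normalizer {N : Subgroup G} {x n : G}
    (hx : x ∈ Subgroup.normalizer (N : Set G)) (hn : n ∈ N) : x * n * x⁻¹ ∈ N :=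
  (Subgroup.mem_normalizer_iff.mp hx n).mp hn

theorem conj_mem_of_mem_normalizer' {N : Subgroup G} {x n : G}
    (hx : x ∈ Subgroup.normalizer (N : Set G)) (hn : n ∈ N) : x⁻¹ * n * x ∈ N := by
  have := (Subgroup.mem_normalizer_iff.mp (Subgroup.inv_mem _ hx) n).mp hn
  rwa [inv_inv] at this

theorem le_normalizer_inf' {H A B : Subgroup G} (hA : H ≤ Subgroup.normalizer (A : Set G))
    (hB : H ≤ Subgroup.normalizer (B : Set G)) :
    H ≤ Subgroup.normalizer ((A ⊓ B : Subgroup G) : Set G) := by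
  intro h hh
  rw [Subgroup.mem_normalizer_iff]
  intro x
  rw [Subgroup.mem_inf, Subgroup.mem_inf, ← Subgroup.mem_normalizer_iff.mp (hA hh) x,
    ← Subgroup.mem_normalizer_iff.mp (hB hh) x]

theorem le_normalizer_sup' {H A B : Subgroup G} (hA : H ≤ Subgroup.normalizer (A : Set G))
    (hB : H ≤ Subgroup.normalizer (B : Set G)) :
    H ≤ Subgroup.normalizer ((A ⊔ B : Subgroup G) : Set G) := by
  intro h hh
  apply mem_normalizer_of_conj_eq_self
  rw [Subgroup.map_sup, conj_eq_self_of_mem_normalizer (hA hh),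
    conj_eq_self_of_mem_normalizer (hB hh)]

/-- A normal subgroup of `↥X` maps to a subgroup normalized by `X`. -/
theorem le_normalizer_map_subtype (X : Subgroup G) (N : Subgroup ↥X) [hN : N.Normal] :
    X ≤ Subgroup.normalizer ((N.map X.subtype : Subgroup G) : Set G) := by
  have h1 := Subgroup.le_normalizer_map (H := N) X.subtype
  have h2 : Subgroup.normalizer ((N : Subgroup X) : Set X) = ⊤ :=
    Subgroup.normalizer_eq_top_iff.mpr hN
  rw [h2, ← MonoidHom.range_eq_map, Subgroup.range_subtype] at h1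
  exact h1

theorem coreIn_le_left (H S : Subgroup G) : coreIn H S ≤ H := Subgroup.map_subtype_le _

theorem coreIn_le_right (H S : Subgroup G) : coreIn H S ≤ S := by
  intro x hx
  obtain ⟨y, hy, rfl⟩ := Subgroup.mem_map.mp hx
  exact Subgroup.mem_subgroupOf.mp (Subgroup.normalCore_le _ hy)

theorem le_normalizer_coreIn (H S : Subgroup G) :
    H ≤ Subgroup.normalizer (coreIn H S : Set G) := by
  haveI := Subgroup.normalCore_normal (S.subgroupOf H)
  exact le_normalizer_map_subtype H _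

theorem le_coreIn {N H S : Subgroup G} (hNH : N ≤ H) (hNS : N ≤ S)
    (hn : H ≤ Subgroup.normalizer (N : Set G)) : N ≤ coreIn H S := by
  have h1 : (N.subgroupOf H).Normal := (Subgroup.normal_subgroupOf_iff_le_normalizer hNH).mpr hn
  have h2 : N.subgroupOf H ≤ (S.subgroupOf H).normalCore := by
    rw [Subgroup.normal_le_normalCore]
    intro x hx
    exact Subgroup.mem_subgroupOf.mpr (hNS (Subgroup.mem_subgroupOf.mp hx))
  have h3 := Subgroup.map_mono (f := H.subtype) h2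
  rwa [Subgroup.map_subgroupOf_eq_of_le hNH] at h3

/-- Lemma 1: a nontrivial subgroup normalized by a core-free maximal subgroup `X` has normalizer
exactly `X`. -/
theorem normalizer_le_of_coatom {X : Subgroup G} (hmax : IsCoatom X)
    (hcore : X.normalCore = ⊥) :
    ∀ N : Subgroup G, N ≠ ⊥ → N ≤ X → X ≤ Subgroup.normalizer (N : Set G) →
      Subgroup.normalizer (N : Set G) ≤ X := by
  intro N hN hNX hXN
  rcases eq_or_lt_of_le hXN with e | hlt
  · exact le_of_eq e.symm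
  · exfalso
    have htop := hmax.2 _ hlt
    haveI hn : N.Normal := Subgroup.normalizer_eq_top_iff.mp htop
    have hle : N ≤ X.normalCore := Subgroup.normal_le_normalCore.mpr hNX
    rw [hcore] at hle
    exact hN (le_bot_iff.mp hle)

/-- Lemma 1 transported to a conjugate. -/
theorem nY_of_nX {X : Subgroup G} (g : G)
    (nX : ∀ N : Subgroup G, N ≠ ⊥ → N ≤ X → X ≤ Subgroup.normalizer (N : Set G) →
      Subgroup.normalizer (N : Set G) ≤ X) :
    ∀ N : Subgroup G, N ≠ ⊥ → N ≤ X.map (MulAut.conj g).toMonoidHom →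
      X.map (MulAut.conj g).toMonoidHom ≤ Subgroup.normalizer (N : Set G) →
      Subgroup.normalizer (N : Set G) ≤ X.map (MulAut.conj g).toMonoidHom := by
  intro N hN hNY hYN
  rw [le_conj_iff] at hNY ⊢
  rw [← normalizer_conj]
  apply nX _ (conj_ne_bot hN g⁻¹) hNY
  rw [normalizer_conj]
  have h1 := conj_mono hYN g⁻¹
  rwa [conj_conj, inv_mul_cancel, conj_one] at h1

variable [Finite G]

/-- An element conjugating a generating set into itself normalizes the generated subgroup. -/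
theorem mem_normalizer_closure (S : Set G) (c : G) (h : ∀ s ∈ S, c * s * c⁻¹ ∈ S) :
    c ∈ Subgroup.normalizer ((Subgroup.closure S : Subgroup G) : Set G) := by
  apply mem_normalizer_of_conj_le
  rw [MonoidHom.map_closure, Subgroup.closure_le]
  rintro _ ⟨s, hs, rfl⟩
  apply Subgroup.subset_closure
  have := h s hs
  simpa [MulAut.conj_apply] using this

theorem closure_copSet_le (p : ℕ) (B : Subgroup G) : Subgroup.closure (copSet p B) ≤ B :=
  (Subgroup.closure_le B).mpr (fun _ hb => (mem_copSet.mp hb).1)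

theorem le_normalizer_closure_copSet {p : ℕ} {H B : Subgroup G}
    (hn : H ≤ Subgroup.normalizer (B : Set G)) :
    H ≤ Subgroup.normalizer ((Subgroup.closure (copSet p B) : Subgroup G) : Set G) := by
  intro y hy
  apply mem_normalizer_closure
  intro s hs
  obtain ⟨hs1, hs2⟩ := mem_copSet.mp hs
  exact mem_copSet.mpr ⟨conj_mem_of_mem_normalizer (hn hy) hs1, by rw [orderOf_conj_eq]; exact hs2⟩

theorem isPGroup_of_closure_copSet_eq_bot {p : ℕ} [Fact p.Prime] {B : Subgroup G}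
    (h : Subgroup.closure (copSet p B) = ⊥) : IsPGroup p B := by
  apply isPGroup_of_forall_coprime_eq_one
  intro d hd
  have h1 : (d : G) ∈ Subgroup.closure (copSet p B) :=
    Subgroup.subset_closure (mem_copSet.mpr ⟨d.2, by rw [Subgroup.orderOf_coe]; exact hd⟩)
  rw [h, Subgroup.mem_bot] at h1
  exact Subtype.ext h1

theorem pCoreOf_conj_le' (p : ℕ) (X : Subgroup G) (g : G) :
    (pCoreOf p X).map (MulAut.conj g).toMonoidHom ≤
      pCoreOf p (X.map (MulAut.conj g).toMonoidHom) := by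
  apply le_pCoreOf (conj_mono (pCoreOf_le p X) g)
  · rw [normalizer_conj]; exact conj_mono (le_normalizer_pCoreOf p X) g
  · exact isPGroup_conj (pCoreOf_isPGroup p X) g

theorem pCoreOf_conj' (p : ℕ) (X : Subgroup G) (g : G) :
    pCoreOf p (X.map (MulAut.conj g).toMonoidHom) =
      (pCoreOf p X).map (MulAut.conj g).toMonoidHom := by
  apply le_antisymm
  · rw [le_conj_iff]
    have h := pCoreOf_conj_le' p (X.map (MulAut.conj g).toMonoidHom) g⁻¹
    rwa [conj_conj, inv_mul_cancel, conj_one] at h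
  · exact pCoreOf_conj_le' p X g

theorem card_pCoreOf_conj (p : ℕ) (X : Subgroup G) (g : G) :
    Nat.card (pCoreOf p (X.map (MulAut.conj g).toMonoidHom)) = Nat.card (pCoreOf p X) := by
  rw [pCoreOf_conj', Subgroup.card_map_of_injective (MulAut.conj g).injective]

theorem card_EOf_conj (X : Subgroup G) (g : G) :
    Nat.card (EOf (X.map (MulAut.conj g).toMonoidHom)) = Nat.card (EOf X) := by
  have e : ↥X ≃* ↥(X.map (MulAut.conj g).toMonoidHom) := (MulAut.conj g).subgroupMap X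
  have h1 := layer_map_equiv e
  unfold EOf
  rw [Subgroup.card_map_of_injective (Subgroup.subtype_injective _),
    Subgroup.card_map_of_injective (Subgroup.subtype_injective _), ← h1,
    Subgroup.card_map_of_injective e.injective]

/-! ### The core lemma -/

/-- If `B` is not a `p`-group, then every element of `X` acting trivially on `X1 / O_p(X1)` lies
in `X1`. -/
theorem lemmaC {p : ℕ} [Fact p.Prime] {X Y X1 Y1 A B : Subgroup G} (h : Cfg X Y X1 Y1 A B)
    (hB : ¬ IsPGroup p B) :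
    ∀ c ∈ X, (∀ x ∈ X1, c * x * c⁻¹ * x⁻¹ ∈ pCoreOf p X1) → c ∈ X1 := by
  have hTne : Subgroup.closure (copSet p B) ≠ ⊥ := fun hbot =>
    hB (isPGroup_of_closure_copSet_eq_bot hbot)
  have hNT : Subgroup.normalizer ((Subgroup.closure (copSet p B) : Subgroup G) : Set G) ≤ Y :=
    h.nY _ hTne ((closure_copSet_le p B).trans (h.BY1.trans h.Y1Y))
      (le_normalizer_closure_copSet h.YnB)
  have hXP : X ≤ Subgroup.normalizer (pCoreOf p X1 : Set G) :=
    h.XnX1.trans (normalizer_le_normalizer_pCoreOf p X1)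
  have hX1D : X1 ≤ Subgroup.normalizer ((X1 ⊓ Y1 : Subgroup G) : Set G) :=
    le_normalizer_inf' Subgroup.le_normalizer (h.X1Y.trans h.YnY1)
  have hDB : X1 ⊓ Y1 ≤ Subgroup.normalizer (B : Set G) :=
    (inf_le_right.trans h.Y1Y).trans h.YnB
  have hSY : ∀ c ∈ cSet p X X1, c ∈ Y := by
    intro c hc
    obtain ⟨hcX, hcc⟩ := mem_cSet.mp hc
    apply hNT
    apply mem_normalizer_closure
    intro b hb
    obtain ⟨hbB, hbo⟩ := mem_copSet.mp hb
    have hbX1 : b ∈ X1 := h.BX1 hbB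
    have hz : c * b * c⁻¹ * b⁻¹ ∈ pCoreOf p X1 := hcc b hbX1
    obtain ⟨k, hk⟩ := pow_eq_one_of_mem (pCoreOf_isPGroup p X1) hz
    have he : c * b * c⁻¹ * b⁻¹ * b = c * b * c⁻¹ := by group
    have hord : (orderOf (c * b * c⁻¹ * b⁻¹ * b)).Coprime p := by
      rw [he, orderOf_conj_eq]; exact hbo
    have hzX1 : c * b * c⁻¹ * b⁻¹ ∈ X1 := pCoreOf_le p X1 hz
    have hbD : b ∈ X1 ⊓ Y1 := Subgroup.mem_inf.mpr ⟨hbX1, h.BY1 hbB⟩
    have h1 : c * b * c⁻¹ * b⁻¹ * b ∈ X1 ⊓ Y1 :=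
      cop_mem _ _ _ (hX1D hzX1) hbD k hk hord
    have hzD : c * b * c⁻¹ * b⁻¹ ∈ X1 ⊓ Y1 := by
      have := (X1 ⊓ Y1).mul_mem h1 ((X1 ⊓ Y1).inv_mem hbD)
      rwa [mul_inv_cancel_right] at this
    have h2 : c * b * c⁻¹ * b⁻¹ * b ∈ B := cop_mem _ _ _ (hDB hzD) hbB k hk hord
    rw [he] at h2
    exact mem_copSet.mpr ⟨h2, by rw [orderOf_conj_eq]; exact hbo⟩
  have hSX1 : Subgroup.closure (cSet p X X1) ≤ X1 := by
    apply h.coreX
    · exact (Subgroup.closure_le X).mpr (fun c hc => (mem_cSet.mp hc).1)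
    · exact (Subgroup.closure_le Y).mpr hSY
    · intro x hx
      apply mem_normalizer_closure
      intro c hc
      obtain ⟨hcX, hcc⟩ := mem_cSet.mp hc
      refine mem_cSet.mpr ⟨X.mul_mem (X.mul_mem hx hcX) (X.inv_mem hx), ?_⟩
      intro u hu
      have hu' : x⁻¹ * u * x ∈ X1 := conj_mem_of_mem_normalizer' (h.XnX1 hx) hu
      have h1 := hcc _ hu'
      have h2 := conj_mem_of_mem_normalizer (hXP hx) h1
      have he : x * (c * (x⁻¹ * u * x) * c⁻¹ * (x⁻¹ * u * x)⁻¹) * x⁻¹ =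
          x * c * x⁻¹ * u * (x * c * x⁻¹)⁻¹ * u⁻¹ := by group
      rwa [he] at h2
  intro c hcX hc
  exact hSX1 (Subgroup.subset_closure (mem_cSet.mpr ⟨hcX, hc⟩))

/-- A `p`-subgroup of `X` normalized by `X1` lies in `O_p(X1)`, given the conclusion of `lemmaC`. -/
theorem claimR {p : ℕ} {X X1 R : Subgroup G}
    (hXnX1 : X ≤ Subgroup.normalizer (X1 : Set G))
    (hC : ∀ c ∈ X, (∀ x ∈ X1, c * x * c⁻¹ * x⁻¹ ∈ pCoreOf p X1) → c ∈ X1)
    (hRX : R ≤ X) (hRp : IsPGroup p R) (hn : X1 ≤ Subgroup.normalizer (R : Set G)) :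
    R ≤ pCoreOf p X1 := by
  have h1 : R ⊓ X1 ≤ pCoreOf p X1 :=
    le_pCoreOf inf_le_right (le_normalizer_inf' hn Subgroup.le_normalizer)
      (hRp.to_le inf_le_left)
  have h2 : R ≤ X1 := by
    intro c hc
    apply hC c (hRX hc)
    intro x hx
    apply h1
    refine Subgroup.mem_inf.mpr ⟨?_, ?_⟩
    · have h3 : x * c⁻¹ * x⁻¹ ∈ R := conj_mem_of_mem_normalizer (hn hx) (R.inv_mem hc)
      have h4 := R.mul_mem hc h3
      have he : c * (x * c⁻¹ * x⁻¹) = c * x * c⁻¹ * x⁻¹ := by group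
      rwa [he] at h4
    · have h3 : c * x * c⁻¹ ∈ X1 := conj_mem_of_mem_normalizer (hXnX1 (hRX hc)) hx
      exact X1.mul_mem h3 (X1.inv_mem hx)
  intro c hc
  exact h1 (Subgroup.mem_inf.mpr ⟨hc, h2 hc⟩)

/-- If `O_p(X) ≠ 1` then `B` is a `p`-group. -/
theorem factP {p : ℕ} [Fact p.Prime] {X Y X1 Y1 A B : Subgroup G} (h : Cfg X Y X1 Y1 A B)
    (hPX : pCoreOf p X ≠ ⊥) : IsPGroup p B := by
  by_contra hB
  have hC := lemmaC h hB
  have hXPX : X ≤ Subgroup.normalizer (pCoreOf p X : Set G) := le_normalizer_pCoreOf p X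
  have hYPY : Y ≤ Subgroup.normalizer (pCoreOf p Y : Set G) := le_normalizer_pCoreOf p Y
  have hP1 : pCoreOf p X1 ≤ pCoreOf p X :=
    le_pCoreOf ((pCoreOf_le p X1).trans h.X1X)
      (h.XnX1.trans (normalizer_le_normalizer_pCoreOf p X1)) (pCoreOf_isPGroup p X1)
  have hPXX1 : pCoreOf p X ≤ pCoreOf p X1 :=
    claimR h.XnX1 hC (pCoreOf_le p X) (pCoreOf_isPGroup p X) (h.X1X.trans hXPX)
  have hPXY : pCoreOf p X ≤ Y := hPXX1.trans ((pCoreOf_le p X1).trans h.X1Y)
  have hS0 : IsPGroup p (pCoreOf p X ⊔ pCoreOf p Y : Subgroup G) :=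
    (pCoreOf_isPGroup p X).to_sup_of_normal_right' (pCoreOf_isPGroup p Y) (hPXY.trans hYPY)
  have hle : pCoreOf p Y ≤ pCoreOf p X := by
    by_contra hnle
    have hlt : pCoreOf p X < pCoreOf p X ⊔ pCoreOf p Y := by
      refine lt_of_le_of_ne le_sup_left ?_
      intro he
      apply hnle
      have h1 : pCoreOf p Y ≤ pCoreOf p X ⊔ pCoreOf p Y := le_sup_right
      rwa [← he] at h1
    obtain ⟨s, hsS, hsP, hsN⟩ := exists_mem_normalizer_not_mem hS0 hlt
    have hsX : s ∈ X := h.nX _ hPX (pCoreOf_le p X) hXPX hsN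
    have hR : (pCoreOf p X ⊔ pCoreOf p Y) ⊓ X ≤ pCoreOf p X1 := by
      apply claimR h.XnX1 hC inf_le_right (hS0.to_le inf_le_left)
      apply le_normalizer_inf'
      · exact le_normalizer_sup' (h.X1X.trans hXPX) (h.X1Y.trans hYPY)
      · exact h.X1X.trans Subgroup.le_normalizer
    exact hsP (hP1 (hR (Subgroup.mem_inf.mpr ⟨hsS, hsX⟩)))
  have heq : pCoreOf p Y = pCoreOf p X :=
    Subgroup.eq_of_le_of_card_ge hle (le_of_eq (h.cardP p))
  have hYX : Y ≤ X := by
    have h1 : Y ≤ Subgroup.normalizer (pCoreOf p X : Set G) := by rw [← heq]; exact hYPY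
    exact h1.trans (h.nX _ hPX (pCoreOf_le p X) hXPX)
  exact h.nle hYX

end Cfsg.Agent.Lib.helper96.TW
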