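import Mathlib
import Cfsg.Agent.Lib.helper96.TWA

/-!
Thompson–Wielandt configuration (helper96), part B: some `O_p(X)` is nontrivial.
-/

set_option autoImplicit false
set_option linter.unusedSectionVars false
set_option linter.style.haveILetI false

namespace Cfsg.Agent.Lib.helper96.TW

open Cfsg Cfsg.Agent.Lib.helper53
open Cfsg.Agent.Lib.helper28 (isComponent_le_or_commute isComponent_subgroupOf le_layer
  commutator_eq_bot_of_subgroupOf le_of_subgroupOf_le centralizer_generalizedFittingSubgroup_le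
  fittingSubgroup_isNilpotent)

variable {G : Type*} [Group G] [Finite G]

theorem pCore_eq_bot_of_pCoreOf {p : ℕ} {X : Subgroup G} (h : pCoreOf p X = ⊥) :
    pCore p ↥X = ⊥ := by
  unfold pCoreOf at h
  exact (Subgroup.map_eq_bot_iff_of_injective _ X.subtype_injective).mp h

/-- A finite group with all `O_p` trivial has trivial Fitting subgroup. -/
theorem fitting_eq_bot (H : Type*) [Group H] [Finite H]
    (h : ∀ p : ℕ, p.Prime → pCore p H = ⊥) : fittingSubgroup H = ⊥ := by
  by_contra hne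
  have hcard : Nat.card (fittingSubgroup H) ≠ 1 := fun hc => hne (Subgroup.card_eq_one.mp hc)
  obtain ⟨p, hp, hpd⟩ := Nat.exists_prime_and_dvd hcard
  haveI : Fact p.Prime := ⟨hp⟩
  haveI : Group.IsNilpotent (fittingSubgroup H) := fittingSubgroup_isNilpotent H
  obtain P : Sylow p (fittingSubgroup H) := default
  have hPn : (P : Subgroup (fittingSubgroup H)).Normal := inferInstance
  haveI : (P : Subgroup (fittingSubgroup H)).Characteristic :=
    Sylow.characteristic_of_normal P hPn
  have hN : ((P : Subgroup (fittingSubgroup H)).map (fittingSubgroup H).subtype).Normal :=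
    inferInstance
  have hle : (P : Subgroup (fittingSubgroup H)).map (fittingSubgroup H).subtype ≤ pCore p H :=
    le_pCore hN (P.2.map _)
  rw [h p hp, le_bot_iff, Subgroup.map_eq_bot_iff_of_injective _ (Subgroup.subtype_injective _)]
    at hle
  exact P.ne_bot_of_dvd_card hpd hle

/-- If `N ⊴ X` contains its centralizer in `X`, then `E(X) ≤ N`. -/
theorem EOf_le_of_centralizer_le {X N : Subgroup G} (hNX : N ≤ X)
    (hn : X ≤ Subgroup.normalizer (N : Set G))
    (hcen : ∀ c ∈ X, (∀ x ∈ N, c * x = x * c) → c ∈ N) : EOf X ≤ N := by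
  have hnorm : (N.subgroupOf X).Normal :=
    (Subgroup.normal_subgroupOf_iff_le_normalizer hNX).mpr hn
  have h1 : layer ↥X ≤ N.subgroupOf X := by
    unfold layer
    apply sSup_le
    intro K hK
    have hKc : IsComponent K := hK
    rcases isComponent_le_or_commute hKc (Subgroup.Normal.isSubnormal hnorm) with h2 | h2
    · exact h2
    · rw [Subgroup.commutator_eq_bot_iff_le_centralizer] at h2
      intro k hk
      rw [Subgroup.mem_subgroupOf]
      apply hcen _ k.2
      intro x hx
      have h3 := Subgroup.mem_centralizer_iff.mp (h2 hk) ⟨x, hNX hx⟩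
        (Subgroup.mem_subgroupOf.mpr hx)
      exact (congrArg Subtype.val h3).symm
  have h3 := Subgroup.map_mono (f := X.subtype) h1
  rwa [Subgroup.map_subgroupOf_eq_of_le hNX] at h3

/-- `E(X) ≤ E(Y)` when `F*(Y) = E(Y)`, `E(X) ≤ Y` and `E(Y) ≤ X`. -/
theorem EOf_le_EOf {X Y : Subgroup G}
    (hFY : generalizedFittingSubgroup ↥Y = layer ↥Y) (hEXY : EOf X ≤ Y) (hEYX : EOf Y ≤ X) :
    EOf X ≤ EOf Y := by
  have hYE : Y ≤ Subgroup.normalizer (EOf Y : Set G) := le_normalizer_map_subtype Y (layer ↥Y)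
  have hEYY : EOf Y ≤ Y := Subgroup.map_subtype_le _
  have h1 : layer ↥X ≤ (EOf Y).subgroupOf X := by
    unfold layer
    apply sSup_le
    intro K hK
    have hKc : IsComponent K := hK
    have hKL : K ≤ Y.subgroupOf X := by
      intro k hk
      rw [Subgroup.mem_subgroupOf]
      apply hEXY
      exact Subgroup.mem_map.mpr ⟨k, le_layer hKc hk, rfl⟩
    have hK' : IsComponent (K.subgroupOf (Y.subgroupOf X)) := isComponent_subgroupOf hKc hKL
    have hEL : (EOf Y).subgroupOf X ≤ Y.subgroupOf X := by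
      intro e he
      exact Subgroup.mem_subgroupOf.mpr (hEYY (Subgroup.mem_subgroupOf.mp he))
    have hHn : (((EOf Y).subgroupOf X).subgroupOf (Y.subgroupOf X)).Normal := by
      rw [Subgroup.normal_subgroupOf_iff_le_normalizer hEL]
      intro l hl
      rw [Subgroup.mem_normalizer_iff]
      intro e
      exact Subgroup.mem_normalizer_iff.mp (hYE (Subgroup.mem_subgroupOf.mp hl)) (e : G)
    rcases isComponent_le_or_commute hK' (Subgroup.Normal.isSubnormal hHn) with h2 | h2
    · exact le_of_subgroupOf_le hKL h2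
    · have h3 : ⁅K, (EOf Y).subgroupOf X⁆ = ⊥ := commutator_eq_bot_of_subgroupOf hKL hEL h2
      rw [Subgroup.commutator_eq_bot_iff_le_centralizer] at h3
      intro k hk
      have hkY : (k : G) ∈ Y := Subgroup.mem_subgroupOf.mp (hKL hk)
      have hcen : (⟨(k : G), hkY⟩ : ↥Y) ∈
          Subgroup.centralizer (generalizedFittingSubgroup ↥Y : Set ↥Y) := by
        rw [Subgroup.mem_centralizer_iff]
        intro f hf
        have hf' : f ∈ layer ↥Y := by rw [← hFY]; exact hf
        have hfE : (f : G) ∈ EOf Y := Subgroup.mem_map.mpr ⟨f, hf', rfl⟩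
        have h4 := Subgroup.mem_centralizer_iff.mp (h3 hk) ⟨(f : G), hEYX hfE⟩
          (Subgroup.mem_subgroupOf.mpr hfE)
        have h6 : (f : G) * (k : G) = (k : G) * (f : G) := congrArg Subtype.val h4
        exact Subtype.ext h6
      have h5 := centralizer_generalizedFittingSubgroup_le ↥Y hcen
      rw [hFY] at h5
      rw [Subgroup.mem_subgroupOf]
      exact Subgroup.mem_map.mpr ⟨⟨(k : G), hkY⟩, h5, rfl⟩
  intro y hy
  obtain ⟨x, hx, rfl⟩ := Subgroup.mem_map.mp hy
  exact Subgroup.mem_subgroupOf.mp (h1 hx)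

/-- In the Thompson–Wielandt configuration some `O_p(X)` is nontrivial. -/
theorem nonsolv {X Y X1 Y1 A B : Subgroup G} (h : Cfg X Y X1 Y1 A B)
    (hP : ∀ p : ℕ, p.Prime → pCoreOf p X = ⊥) : False := by
  have hP' : ∀ p : ℕ, p.Prime → pCoreOf p Y = ⊥ := by
    intro p hp
    rw [← Subgroup.card_eq_one, ← h.cardP p, Subgroup.card_eq_one]
    exact hP p hp
  haveI : Fact (Nat.Prime 2) := ⟨Nat.prime_two⟩
  have hB2 : ¬ IsPGroup 2 B := by
    intro hB
    have h1 : B ≤ pCoreOf 2 Y := le_pCoreOf (h.BY1.trans h.Y1Y) h.YnB hB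
    rw [hP' 2 Nat.prime_two] at h1
    exact h.hB (le_bot_iff.mp h1)
  have hA2 : ¬ IsPGroup 2 A := by
    intro hA
    have h1 : A ≤ pCoreOf 2 X := le_pCoreOf (h.AX1.trans h.X1X) h.XnA hA
    rw [hP 2 Nat.prime_two] at h1
    exact h.hA (le_bot_iff.mp h1)
  have hcX : ∀ c ∈ X, (∀ x ∈ X1, c * x = x * c) → c ∈ X1 := by
    intro c hc hcen
    apply lemmaC h hB2 c hc
    intro x hx
    have h1 : c * x * c⁻¹ * x⁻¹ = 1 := by rw [hcen x hx]; group
    rw [h1]; exact Subgroup.one_mem _
  have hcY : ∀ c ∈ Y, (∀ x ∈ Y1, c * x = x * c) → c ∈ Y1 := by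
    intro c hc hcen
    apply lemmaC h.symm hA2 c hc
    intro x hx
    have h1 : c * x * c⁻¹ * x⁻¹ = 1 := by rw [hcen x hx]; group
    rw [h1]; exact Subgroup.one_mem _
  have hEX : EOf X ≤ X1 := EOf_le_of_centralizer_le h.X1X h.XnX1 hcX
  have hEY : EOf Y ≤ Y1 := EOf_le_of_centralizer_le h.Y1Y h.YnY1 hcY
  have hFX : generalizedFittingSubgroup ↥X = layer ↥X := by
    unfold generalizedFittingSubgroup
    rw [fitting_eq_bot ↥X (fun p hp => pCore_eq_bot_of_pCoreOf (hP p hp)), sup_bot_eq]
  have hFY : generalizedFittingSubgroup ↥Y = layer ↥Y := by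
    unfold generalizedFittingSubgroup
    rw [fitting_eq_bot ↥Y (fun p hp => pCore_eq_bot_of_pCoreOf (hP' p hp)), sup_bot_eq]
  have hle : EOf X ≤ EOf Y := EOf_le_EOf hFY (hEX.trans h.X1Y) (hEY.trans h.Y1X)
  have heq : EOf X = EOf Y := Subgroup.eq_of_le_of_card_ge hle (le_of_eq h.cardE.symm)
  have hXE : X ≤ Subgroup.normalizer (EOf X : Set G) := le_normalizer_map_subtype X (layer ↥X)
  have hYE : Y ≤ Subgroup.normalizer (EOf X : Set G) := by
    rw [heq]; exact le_normalizer_map_subtype Y (layer ↥Y)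
  have hE : EOf X = ⊥ := by
    by_contra hne
    exact h.nle (hYE.trans (h.nX _ hne (Subgroup.map_subtype_le _) hXE))
  have hL : layer ↥X = ⊥ := (Subgroup.map_eq_bot_iff_of_injective _ X.subtype_injective).mp hE
  have hbend := centralizer_generalizedFittingSubgroup_le ↥X
  rw [hFX, hL] at hbend
  apply h.hA
  rw [eq_bot_iff]
  intro a ha
  have haX : a ∈ X := h.X1X (h.AX1 ha)
  have h1 : (⟨a, haX⟩ : ↥X) ∈ Subgroup.centralizer (((⊥ : Subgroup ↥X) : Set ↥X)) := by
    rw [Subgroup.mem_centralizer_iff]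
    intro z hz
    have hz' : z = 1 := Subgroup.mem_bot.mp hz
    rw [hz']; simp
  have h2 := hbend h1
  rw [Subgroup.mem_bot] at h2 ⊢
  exact congrArg Subtype.val h2

end Cfsg.Agent.Lib.helper96.TW
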