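import Mathlib
import Cfsg.Agent.Lib.helper96.TWA

/-!
Thompson–Wielandt configuration (helper96), part C: once the second cores are `p`-groups, the
point stabilizer has characteristic `p`.
-/

set_option autoImplicit false
set_option linter.unusedSectionVars false
set_option linter.style.haveILetI false

namespace Cfsg.Agent.Lib.helper96.TW

open Cfsg Cfsg.Agent.Lib.helper53
open Cfsg.Agent.Lib.helper54 (normalizer_le_normalizer_pCoreOf isPGroup_of_forall_coprime_eq_one
  commute_of_stabilizes thompson_AxB CharPIn charPIn_of_isPGroup_centralizer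
  normalizer_le_normalizer_centralizer_coe)

variable {G : Type*} [Group G] [Finite G]

/-- `p'`-elements of `C(O_p(Y))` centralize `O_p(X)`. -/
theorem step_cd {p : ℕ} [Fact p.Prime] {X Y X1 Y1 A B : Subgroup G} (h : Cfg X Y X1 Y1 A B)
    (hAp : IsPGroup p A) (hBp : IsPGroup p B) :
    ∀ k ∈ Subgroup.centralizer (pCoreOf p Y : Set G), (orderOf k).Coprime p →
      k ∈ Subgroup.centralizer (pCoreOf p X : Set G) := by
  have hXPX : X ≤ Subgroup.normalizer (pCoreOf p X : Set G) := le_normalizer_pCoreOf p X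
  have hYPY : Y ≤ Subgroup.normalizer (pCoreOf p Y : Set G) := le_normalizer_pCoreOf p Y
  have hAD : A ≤ pCoreOf p (X1 ⊓ Y1) :=
    le_pCoreOf (le_inf h.AX1 h.AY1) ((inf_le_left.trans h.X1X).trans h.XnA) hAp
  have hY1D : Y1 ≤ Subgroup.normalizer ((X1 ⊓ Y1 : Subgroup G) : Set G) :=
    le_normalizer_inf' (h.Y1X.trans h.XnX1) Subgroup.le_normalizer
  have hDY1 : pCoreOf p (X1 ⊓ Y1) ≤ pCoreOf p Y1 :=
    le_pCoreOf ((pCoreOf_le p _).trans inf_le_right)
      (hY1D.trans (normalizer_le_normalizer_pCoreOf p _)) (pCoreOf_isPGroup p _)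
  have hY1Y : pCoreOf p Y1 ≤ pCoreOf p Y :=
    le_pCoreOf ((pCoreOf_le p Y1).trans h.Y1Y)
      (h.YnY1.trans (normalizer_le_normalizer_pCoreOf p Y1)) (pCoreOf_isPGroup p Y1)
  have hAPY : A ≤ pCoreOf p Y := hAD.trans (hDY1.trans hY1Y)
  have hBPY : B ≤ pCoreOf p Y := le_pCoreOf (h.BY1.trans h.Y1Y) h.YnB hBp
  have hKX : Subgroup.centralizer (pCoreOf p Y : Set G) ≤ X := by
    intro k hk
    apply h.nX A h.hA (h.AX1.trans h.X1X) h.XnA
    apply Subgroup.centralizer_le_normalizer
    exact Subgroup.centralizer_le (SetLike.coe_subset_coe.mpr hAPY) hk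
  have hKY : Subgroup.centralizer (pCoreOf p Y : Set G) ≤ Y := by
    intro k hk
    apply h.nY B h.hB (h.BY1.trans h.Y1Y) h.YnB
    apply Subgroup.centralizer_le_normalizer
    exact Subgroup.centralizer_le (SetLike.coe_subset_coe.mpr hBPY) hk
  have hCBY : Subgroup.centralizer (B : Set G) ≤ Y :=
    (Subgroup.centralizer_le_normalizer _).trans (h.nY B h.hB (h.BY1.trans h.Y1Y) h.YnB)
  have hYK : Y ≤ Subgroup.normalizer
      ((Subgroup.centralizer (pCoreOf p Y : Set G) : Subgroup G) : Set G) :=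
    hYPY.trans (normalizer_le_normalizer_centralizer_coe _)
  have hPK : pCoreOf p X ⊓ Subgroup.centralizer (pCoreOf p Y : Set G) ≤ pCoreOf p Y := by
    have h1 : pCoreOf p X ⊓ Subgroup.centralizer (pCoreOf p Y : Set G) ≤
        pCoreOf p (Subgroup.centralizer (pCoreOf p Y : Set G)) :=
      le_pCoreOf inf_le_right (le_normalizer_inf' (hKX.trans hXPX) Subgroup.le_normalizer)
        ((pCoreOf_isPGroup p X).to_le inf_le_left)
    have h2 : pCoreOf p (Subgroup.centralizer (pCoreOf p Y : Set G)) ≤ pCoreOf p Y :=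
      le_pCoreOf ((pCoreOf_le p _).trans hKY)
        (hYK.trans (normalizer_le_normalizer_pCoreOf p _)) (pCoreOf_isPGroup p _)
    exact h1.trans h2
  intro k hk hko
  have hkX : k ∈ X := hKX hk
  have hkY : k ∈ Y := hKY hk
  have hR : ∀ q ∈ pCoreOf p X ⊓ Y, k * q = q * k := by
    apply commute_of_stabilizes (pCoreOf p X ⊓ Y) ((pCoreOf_isPGroup p X).to_le inf_le_left) k hko
    intro q hq
    obtain ⟨hqP, hqY⟩ := Subgroup.mem_inf.mp hq
    have h1 : k * q * k⁻¹ ∈ pCoreOf p X ⊓ Y :=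
      Subgroup.mem_inf.mpr ⟨conj_mem_of_mem_normalizer (hXPX hkX) hqP,
        Y.mul_mem (Y.mul_mem hkY hqY) (Y.inv_mem hkY)⟩
    have hr : q⁻¹ * (k * q * k⁻¹) ∈ pCoreOf p X ⊓ Y :=
      Subgroup.mul_mem _ (Subgroup.inv_mem _ hq) h1
    refine ⟨q⁻¹ * (k * q * k⁻¹), hr, by group, ?_⟩
    have h2 : q⁻¹ * k * q ∈ Subgroup.centralizer (pCoreOf p Y : Set G) :=
      conj_mem_of_mem_normalizer' (hYK hqY) hk
    have h3 : q⁻¹ * (k * q * k⁻¹) ∈ Subgroup.centralizer (pCoreOf p Y : Set G) := by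
      have h5 := Subgroup.mul_mem _ h2 (Subgroup.inv_mem _ hk)
      have he : q⁻¹ * k * q * k⁻¹ = q⁻¹ * (k * q * k⁻¹) := by group
      rwa [he] at h5
    have h4 : q⁻¹ * (k * q * k⁻¹) ∈ pCoreOf p Y :=
      hPK (Subgroup.mem_inf.mpr ⟨(Subgroup.mem_inf.mp hr).1, h3⟩)
    exact (Subgroup.mem_centralizer_iff.mp hk _ h4).symm
  have hdR : ∀ x ∈ B, k * x = x * k := by
    intro x hx
    exact (Subgroup.mem_centralizer_iff.mp hk x (hBPY hx)).symm
  have hcen : ∀ q ∈ pCoreOf p X, (∀ x ∈ B, x * q = q * x) → k * q = q * k := by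
    intro q hq hqB
    apply hR q
    refine Subgroup.mem_inf.mpr ⟨hq, hCBY ?_⟩
    rw [Subgroup.mem_centralizer_iff]
    intro x hx
    exact hqB x hx
  have hfin : ∀ q ∈ pCoreOf p X, k * q = q * k :=
    thompson_AxB B hBp k hko hdR (pCoreOf p X) (pCoreOf_isPGroup p X)
      ((h.BX1.trans h.X1X).trans hXPX) (hXPX hkX) hcen
  rw [Subgroup.mem_centralizer_iff]
  intro q hq
  exact (hfin q hq).symm

/-- In the Thompson–Wielandt configuration with `A`, `B` `p`-groups, `X` has characteristic `p`. -/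
theorem charP {p : ℕ} [Fact p.Prime] {X Y X1 Y1 A B : Subgroup G} (h : Cfg X Y X1 Y1 A B)
    (hAp : IsPGroup p A) (hBp : IsPGroup p B) : CharPIn p X := by
  have hXPX : X ≤ Subgroup.normalizer (pCoreOf p X : Set G) := le_normalizer_pCoreOf p X
  have hYPY : Y ≤ Subgroup.normalizer (pCoreOf p Y : Set G) := le_normalizer_pCoreOf p Y
  have h1 := step_cd h hAp hBp
  have h2 := step_cd h.symm hBp hAp
  have hset : copSet p (Subgroup.centralizer (pCoreOf p X : Set G)) =
      copSet p (Subgroup.centralizer (pCoreOf p Y : Set G)) := by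
    ext k
    constructor
    · intro hk
      obtain ⟨hk1, hk2⟩ := mem_copSet.mp hk
      exact mem_copSet.mpr ⟨h2 k hk1 hk2, hk2⟩
    · intro hk
      obtain ⟨hk1, hk2⟩ := mem_copSet.mp hk
      exact mem_copSet.mpr ⟨h1 k hk1 hk2, hk2⟩
  have hXT : X ≤ Subgroup.normalizer ((Subgroup.closure
      (copSet p (Subgroup.centralizer (pCoreOf p X : Set G))) : Subgroup G) : Set G) :=
    le_normalizer_closure_copSet (hXPX.trans (normalizer_le_normalizer_centralizer_coe _))
  have hYT : Y ≤ Subgroup.normalizer ((Subgroup.closure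
      (copSet p (Subgroup.centralizer (pCoreOf p X : Set G))) : Subgroup G) : Set G) := by
    rw [hset]
    exact le_normalizer_closure_copSet (hYPY.trans (normalizer_le_normalizer_centralizer_coe _))
  have hAPX : A ≤ pCoreOf p X := le_pCoreOf (h.AX1.trans h.X1X) h.XnA hAp
  have hKX : Subgroup.centralizer (pCoreOf p X : Set G) ≤ X := by
    intro k hk
    apply h.nX A h.hA (h.AX1.trans h.X1X) h.XnA
    apply Subgroup.centralizer_le_normalizer
    exact Subgroup.centralizer_le (SetLike.coe_subset_coe.mpr hAPX) hk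
  have hT : Subgroup.closure (copSet p (Subgroup.centralizer (pCoreOf p X : Set G))) = ⊥ := by
    by_contra hne
    exact h.nle (hYT.trans (h.nX _ hne ((closure_copSet_le p _).trans hKX) hXT))
  apply charPIn_of_isPGroup_centralizer (pCoreOf_le p X) hXPX (pCoreOf_isPGroup p X)
  apply isPGroup_of_forall_coprime_eq_one
  intro d hd
  have h3 : (d : G) ∈ Subgroup.closure (copSet p (Subgroup.centralizer (pCoreOf p X : Set G))) :=
    Subgroup.subset_closure (mem_copSet.mpr ⟨(Subgroup.mem_inf.mp d.2).2,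
      by rw [Subgroup.orderOf_coe]; exact hd⟩)
  rw [hT, Subgroup.mem_bot] at h3
  exact Subtype.ext h3

end Cfsg.Agent.Lib.helper96.TW
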